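import Groth.Agent.Fano.K798.TwBin
import Mathlib.FieldTheory.AlgebraicClosure

/-!
# Normalised binary forms are determined by any of their translates, up to finitely many choices

Field theory for the slice `S`: `E` is a relatively algebraically closed subfield of `L`, `F'(v) = F(g v)`, `F'` has coefficients
in `E`, three linear combinations of `F` vanish at `(1,0)`, `(1,1)`, `(0,1)` and one has value `1` at `(1,0)`.  Then `g` and `F` are
defined over `E`.
-/

set_option autoImplicit false

open MvPolynomial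

namespace K239.GLCore

open K798.TwBin

universe u

variable {L : Type u} [Field L]

/-- The value of a binary form with coefficients in a subfield. -/
theorem bv_map {E : Type u} [Field E] [Algebra E L] {e : ℕ} (a : Fin (e + 1) → E) (s t : E) :
    algebraMap E L (bv a s t) = bv (fun i => algebraMap E L (a i)) (algebraMap E L s) (algebraMap E L t) := by
  simp [bv]

/-- The ratio of the coordinates of a zero of a nonzero binary form is algebraic. -/
theorem isAlgebraic_of_bv_eq_zero {E : Type u} [Field E] [Algebra E L] {e : ℕ} (a : Fin (e + 1) → E)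
    (ha : a ≠ 0) (s t : L) (ht : t ≠ 0) (h : bv (fun i => algebraMap E L (a i)) s t = 0) :
    IsAlgebraic E (s / t) := by
  refine ⟨∑ i : Fin (e + 1), Polynomial.monomial (e - (i : ℕ)) (a i), ?_, ?_⟩
  · intro h0
    apply ha
    funext j
    have h1 := congrArg (fun p => Polynomial.coeff p (e - (j : ℕ))) h0
    simp only [Polynomial.finsetSum_coeff, Polynomial.coeff_monomial, Polynomial.coeff_zero] at h1
    rw [Finset.sum_eq_single j] at h1
    · simpa using h1
    · intro i _ hij
      rw [if_neg]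
      intro h2
      apply hij
      have := i.2
      have := j.2
      exact Fin.ext (by omega)
    · intro h2
      exact absurd (Finset.mem_univ j) h2
  · have h1 : (Polynomial.aeval (s / t)) (∑ i : Fin (e + 1), Polynomial.monomial (e - (i : ℕ)) (a i)) * t ^ e =
        bv (fun i => algebraMap E L (a i)) s t := by
      rw [map_sum, Finset.sum_mul, bv]
      refine Finset.sum_congr rfl fun i _ => ?_
      rw [Polynomial.aeval_monomial, div_pow, mul_assoc]
      congr 1
      have h2 : t ^ e = t ^ (e - (i : ℕ)) * t ^ (i : ℕ) := by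
        rw [← pow_add]
        congr 1
        have := i.2
        omega
      rw [h2]
      field_simp
    rw [h] at h1
    exact (mul_eq_zero.mp h1).resolve_right (pow_ne_zero _ ht)

variable {k : Type u} [Field k] [Algebra k L]

/-- The matrix `g` is defined over `E`. -/
theorem mem_of_normalised (E : IntermediateField k L) (hE : ∀ z : L, IsAlgebraic E z → z ∈ E) {e : ℕ} (he : 1 ≤ e)
    (a b c d : L) (hΔ : a * d - b * c ≠ 0) (ha : a ≠ 0) (hc : c ≠ 0) (hac : a - c ≠ 0)
    (G₁ G₂ G₃ G₀ : Fin (e + 1) → L) (H₁ H₂ H₃ H₀ : Fin (e + 1) → E)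
    (h₁ : ∀ s t, bv (fun i => (H₁ i : L)) s t = bv G₁ (a * s + b * t) (c * s + d * t))
    (h₂ : ∀ s t, bv (fun i => (H₂ i : L)) s t = bv G₂ (a * s + b * t) (c * s + d * t))
    (h₃ : ∀ s t, bv (fun i => (H₃ i : L)) s t = bv G₃ (a * s + b * t) (c * s + d * t))
    (h₀ : ∀ s t, bv (fun i => (H₀ i : L)) s t = bv G₀ (a * s + b * t) (c * s + d * t))
    (hG₁ : bv G₁ 1 0 = 0) (hG₂ : bv G₂ 1 1 = 0) (hG₃ : bv G₃ 0 1 = 0) (hG₀ : bv G₀ 1 0 = 1)
    (hH₁ : H₁ ≠ 0) (hH₂ : H₂ ≠ 0) (hH₃ : H₃ ≠ 0) : a ∈ E ∧ b ∈ E ∧ c ∈ E ∧ d ∈ E := by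
  -- the three points
  have hsc : ∀ (G : Fin (e + 1) → L) (r s t : L), bv G (r * s) (r * t) = r ^ e * bv G s t := fun G r s t => bv_smul G r s t
  have e₁ : bv (fun i => (H₁ i : L)) (-d) c = 0 := by
    rw [h₁]
    have h : bv G₁ (-(a * d - b * c) * 1) (-(a * d - b * c) * 0) = 0 := (hsc _ _ _ _).trans (by rw [hG₁, mul_zero])
    rw [← h]
    congr 1 <;> ring
  have e₃ : bv (fun i => (H₃ i : L)) (-b) a = 0 := by
    rw [h₃]
    have h : bv G₃ ((a * d - b * c) * 0) ((a * d - b * c) * 1) = 0 := (hsc _ _ _ _).trans (by rw [hG₃, mul_zero])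
    rw [← h]
    congr 1 <;> ring
  have e₂ : bv (fun i => (H₂ i : L)) (d - b) (a - c) = 0 := by
    rw [h₂]
    have h : bv G₂ ((a * d - b * c) * 1) ((a * d - b * c) * 1) = 0 := (hsc _ _ _ _).trans (by rw [hG₂, mul_zero])
    rw [← h]
    congr 1 <;> ring
  have u : -d / c ∈ E := hE _ (isAlgebraic_of_bv_eq_zero H₁ hH₁ _ _ hc e₁)
  have v : -b / a ∈ E := hE _ (isAlgebraic_of_bv_eq_zero H₃ hH₃ _ _ ha e₃)
  have w : (d - b) / (a - c) ∈ E := hE _ (isAlgebraic_of_bv_eq_zero H₂ hH₂ _ _ hac e₂)
  have u' : d / c ∈ E := by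
    have := E.neg_mem u
    rwa [neg_div, neg_neg] at this
  have v' : b / a ∈ E := by
    have := E.neg_mem v
    rwa [neg_div, neg_neg] at this
  have huw : d / c + (d - b) / (a - c) ≠ 0 := by
    have h : d / c + (d - b) / (a - c) = (a * d - b * c) / (c * (a - c)) := by
      field_simp
      ring
    rw [h]
    exact div_ne_zero hΔ (mul_ne_zero hc hac)
  have hκ : c / a = (b / a + (d - b) / (a - c)) / (d / c + (d - b) / (a - c)) := by
    rw [eq_div_iff huw]
    field_simp
    ring
  have κ : c / a ∈ E := by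
    rw [hκ]
    exact E.div_mem (E.add_mem v' w) (E.add_mem u' w)
  -- the scalar
  have hκ0 : c / a ≠ 0 := div_ne_zero hc ha
  have hdet : (c / a) * (d / c) - (b / a) * (c / a) ≠ 0 := by
    have h : (c / a) * (d / c) - (b / a) * (c / a) = (a * d - b * c) / a ^ 2 := by
      field_simp
    rw [h]
    exact div_ne_zero hΔ (pow_ne_zero _ ha)
  let D : E := ⟨c / a, κ⟩ * ⟨d / c, u'⟩ - ⟨b / a, v'⟩ * ⟨c / a, κ⟩
  have hD : (D : L) = (c / a) * (d / c) - (b / a) * (c / a) := rfl
  let P : E := ⟨c / a, κ⟩ * ⟨d / c, u'⟩ / D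
  let Q : E := -⟨c / a, κ⟩ / D
  have hP : (P : L) = (c / a) * (d / c) / ((c / a) * (d / c) - (b / a) * (c / a)) := rfl
  have hQ : (Q : L) = -(c / a) / ((c / a) * (d / c) - (b / a) * (c / a)) := rfl
  have key : bv (fun i => (H₀ i : L)) (a⁻¹ * (P : L)) (a⁻¹ * (Q : L)) = 1 := by
    rw [h₀, hP, hQ, ← hG₀]
    have hx : a * (a⁻¹ * (c / a * (d / c) / (c / a * (d / c) - b / a * (c / a)))) +
        b * (a⁻¹ * (-(c / a) / (c / a * (d / c) - b / a * (c / a)))) = 1 := by
      rw [show c / a * (d / c) / (c / a * (d / c) - b / a * (c / a)) = a * d / (a * d - b * c) by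
        rw [div_eq_div_iff hdet hΔ]; field_simp,
        show -(c / a) / (c / a * (d / c) - b / a * (c / a)) = -(a * c) / (a * d - b * c) by
        rw [div_eq_div_iff hdet hΔ]; field_simp]
      field_simp
      ring
    have hy : c * (a⁻¹ * (c / a * (d / c) / (c / a * (d / c) - b / a * (c / a)))) +
        d * (a⁻¹ * (-(c / a) / (c / a * (d / c) - b / a * (c / a)))) = 0 := by
      rw [show c / a * (d / c) / (c / a * (d / c) - b / a * (c / a)) = a * d / (a * d - b * c) by
        rw [div_eq_div_iff hdet hΔ]; field_simp,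
        show -(c / a) / (c / a * (d / c) - b / a * (c / a)) = -(a * c) / (a * d - b * c) by
        rw [div_eq_div_iff hdet hΔ]; field_simp]
      field_simp
      ring
    rw [hx, hy]
  rw [hsc] at key
  have hmem : bv (fun i => (H₀ i : L)) (P : L) (Q : L) ∈ E := by
    have := bv_map (L := L) H₀ P Q
    rw [show bv (fun i => (H₀ i : L)) (P : L) (Q : L) = algebraMap E L (bv H₀ P Q) from this.symm]
    exact (bv H₀ P Q).2
  have hae : a ^ e ∈ E := by
    have h : a ^ e = bv (fun i => (H₀ i : L)) (P : L) (Q : L) := by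
      rw [inv_pow, inv_mul_eq_iff_eq_mul₀ (pow_ne_zero _ ha), mul_one] at key
      exact key.symm
    rw [h]
    exact hmem
  have haE : a ∈ E := by
    refine hE a ?_
    have h1 : IsIntegral E (a ^ e) := by
      have : a ^ e = algebraMap E L ⟨a ^ e, hae⟩ := rfl
      rw [this]
      exact isIntegral_algebraMap
    exact (IsIntegral.of_pow he h1).isAlgebraic
  have hcE : c ∈ E := by
    have h := E.mul_mem κ haE
    rwa [div_mul_cancel₀ _ ha] at h
  refine ⟨haE, ?_, hcE, ?_⟩
  · have h := E.mul_mem v' haE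
    rwa [div_mul_cancel₀ _ ha] at h
  · have h := E.mul_mem u' hcE
    rwa [div_mul_cancel₀ _ hc] at h

/-- If a translate of a binary form by a matrix over `E` has coefficients in `E` so has the form. -/
theorem mem_of_translate [Infinite k] (E : IntermediateField k L) {e : ℕ} (a b c d : E)
    (hΔ : a * d - b * c ≠ 0) (F : Fin (e + 1) → L) (H : Fin (e + 1) → E)
    (h : ∀ s t : L, bv (fun i => (H i : L)) s t = bv F (a * s + b * t) (c * s + d * t)) (i : Fin (e + 1)) :
    F i ∈ E := by
  have hinf : Infinite E := Infinite.of_injective _ (algebraMap k E).injective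
  have hinfL : Infinite L := Infinite.of_injective _ (algebraMap k L).injective
  let Δ : E := a * d - b * c
  -- the inverse substitution
  let Y : Fin 2 → MvPolynomial (Fin 2) E :=
    ![C (d / Δ) * X 0 + C (-b / Δ) * X 1, C (-c / Δ) * X 0 + C (a / Δ) * X 1]
  have hY : ∀ j, (Y j).IsHomogeneous 1 := by
    intro j
    fin_cases j
    · exact ((isHomogeneous_C (Fin 2) (d / Δ)).mul (isHomogeneous_X E 0)).add
        ((isHomogeneous_C (Fin 2) (-b / Δ)).mul (isHomogeneous_X E 1))
    · exact ((isHomogeneous_C (Fin 2) (-c / Δ)).mul (isHomogeneous_X E 0)).add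
        ((isHomogeneous_C (Fin 2) (a / Δ)).mul (isHomogeneous_X E 1))
  have hhom : (bind₁ Y (bp H)).IsHomogeneous e := by
    have h1 := (isHomogeneous_bp H).eval₂ C Y (fun r => isHomogeneous_C (Fin 2) r) hY
    rw [one_mul] at h1
    exact h1
  obtain ⟨K, hK⟩ := exists_bp hhom
  have h2 : ∀ s t : L, bv (fun i => (K i : L)) s t = bv F s t := by
    intro s t
    have h3 : ∀ (A : Fin (e + 1) → E) (x : Fin 2 → L), (aeval x) (bp A) = bv (fun i => (A i : L)) (x 0) (x 1) := by
      intro A x
      simp only [bp, bv, map_sum, map_mul, map_pow, aeval_C, aeval_X]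
      rfl
    have h4 := h3 K ![s, t]
    rw [hK, aeval_bind₁, h3 H] at h4
    have h5 : (Δ : L) ≠ 0 := by
      intro h6
      exact hΔ (Subtype.ext h6)
    have h7 : (Δ : L) = (a : L) * d - b * c := rfl
    rw [h] at h4
    simp only [Matrix.cons_val_zero, Matrix.cons_val_one] at h4
    rw [← h4]
    have c1 : ∀ z : E, algebraMap E L z = (z : L) := fun _ => rfl
    congr 1
    · simp only [Y, Matrix.cons_val_zero, Matrix.cons_val_one, map_add, map_mul, aeval_C, aeval_X, c1]
      push_cast
      field_simp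
      rw [h7]
      ring
    · simp only [Y, Matrix.cons_val_zero, Matrix.cons_val_one, map_add, map_mul, aeval_C, aeval_X, c1]
      push_cast
      field_simp
      rw [h7]
      ring
  have h8 : (fun i => (K i : L) - F i) = 0 := by
    refine eq_zero_of_bv fun s t => ?_
    have h9 := h2 s t
    simp only [bv] at h9 ⊢
    simp only [sub_mul, Finset.sum_sub_distrib]
    rw [h9, sub_self]
  have h10 := congrFun h8 i
  have h11 : F i = (K i : L) := (sub_eq_zero.mp h10).symm
  rw [h11]
  exact (K i).2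

end K239.GLCore
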