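import Groth.Agent.Fano.K239.GLCore
import Mathlib.RingTheory.AlgebraicIndependent.TranscendenceBasis
import Mathlib.RingTheory.MvPolynomial.Localization
import Mathlib.FieldTheory.IntermediateField.Adjoin.Basic

/-!
# The orbit of a normalised map under `GL_2` has dimension four

* `isAlgebraic_of_normalised`: `f` a vector of binary forms over `K`, normalised by three zeros and one value, `x` a tuple of points;
  `f' = f ∘ g`, `x' = g⁻¹ x` over `L = K(g)`.  Then `L` is algebraic over every subfield containing `f'`, `x'`.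
* `trdeg_generic`: `trdeg_k K(a, b, c, d) = trdeg_k K + 4`.
-/

set_option autoImplicit false

open MvPolynomial

namespace K239.GLTrd

open K798.TwBin K239.GLCore

universe u

section Field

variable {k K L : Type u} [Field k] [Field K] [Field L] [Algebra k K] [Algebra K L] [Algebra k L] [IsScalarTower k K L]

/-- Linear combinations of binary forms. -/
theorem bv_sum {ι : Type*} [Fintype ι] {R : Type u} [Field R] {e : ℕ} (l : ι → R) (f : ι → Fin (e + 1) → R) (s t : R) :
    bv (fun j => ∑ i, l i * f i j) s t = ∑ i, l i * bv (f i) s t := by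
  simp only [bv, Finset.mul_sum, Finset.sum_mul]
  rw [Finset.sum_comm]
  refine Finset.sum_congr rfl fun i _ => Finset.sum_congr rfl fun j _ => ?_
  ring

/-- The extension generated by the matrix is algebraic over the field of definition of the translated map. -/
theorem isAlgebraic_of_normalised [Infinite k] {n e r : ℕ} (he : 1 ≤ e) (a b c d : L)
    (hgen : IntermediateField.adjoin K ({a, b, c, d} : Set L) = ⊤)
    (hΔ : a * d - b * c ≠ 0) (ha : a ≠ 0) (hc : c ≠ 0) (hac : a - c ≠ 0)
    (f : Fin (n + 1) → Fin (e + 1) → K) (x : Fin r → K)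
    (hK : IntermediateField.adjoin k (Set.range (fun p : Fin (n + 1) × Fin (e + 1) => f p.1 p.2) ∪ Set.range x) = ⊤)
    (f' : Fin (n + 1) → Fin (e + 1) → L) (x' : Fin r → L)
    (hf' : ∀ l s t, bv (f' l) s t = bv (fun j => algebraMap K L (f l j)) (a * s + b * t) (c * s + d * t))
    (hx' : ∀ i, algebraMap K L (x i) * (a + b * x' i) = c + d * x' i) (hx0 : ∀ i, a + b * x' i ≠ 0)
    (l₁ l₂ l₃ l₀ : Fin (n + 1) → k)
    (h₁ : ∑ i, algebraMap k K (l₁ i) * bv (f i) 1 0 = 0) (h₂ : ∑ i, algebraMap k K (l₂ i) * bv (f i) 1 1 = 0)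
    (h₃ : ∑ i, algebraMap k K (l₃ i) * bv (f i) 0 1 = 0) (h₀ : ∑ i, algebraMap k K (l₀ i) * bv (f i) 1 0 = 1)
    (n₁ : ∃ j, ∑ i, algebraMap k K (l₁ i) * f i j ≠ 0) (n₂ : ∃ j, ∑ i, algebraMap k K (l₂ i) * f i j ≠ 0)
    (n₃ : ∃ j, ∑ i, algebraMap k K (l₃ i) * f i j ≠ 0)
    (E : IntermediateField k L) (hfE : ∀ l j, f' l j ∈ E) (hxE : ∀ i, x' i ∈ E) : Algebra.IsAlgebraic E L := by
  have hinfL : Infinite L := Infinite.of_injective _ (algebraMap k L).injective
  -- the relative algebraic closure of `E`, as a subfield over `k`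
  let E' : IntermediateField k L := (algebraicClosure E L).restrictScalars k
  have hmem : ∀ z : L, z ∈ E' ↔ IsAlgebraic E z := fun z => by
    rw [IntermediateField.mem_restrictScalars, mem_algebraicClosure_iff]
  have hEE' : E ≤ E' := fun z hz => by
    rw [hmem]
    exact isAlgebraic_algebraMap (⟨z, hz⟩ : E)
  have hE' : ∀ z : L, IsAlgebraic E' z → z ∈ E' := by
    intro z hz
    rw [hmem]
    have h1 : IsAlgebraic (algebraicClosure E L) z := hz
    exact h1.restrictScalars E
  have hck : ∀ z : k, algebraMap k L z ∈ E' := fun z => E'.algebraMap_mem z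
  have halg : ∀ z : k, algebraMap K L (algebraMap k K z) = algebraMap k L z := fun z =>
    (IsScalarTower.algebraMap_apply k K L z).symm
  -- the linear combinations
  let G : (Fin (n + 1) → k) → Fin (e + 1) → L := fun l j => ∑ i, algebraMap k L (l i) * algebraMap K L (f i j)
  let H : (Fin (n + 1) → k) → Fin (e + 1) → E' := fun l j =>
    ⟨∑ i, algebraMap k L (l i) * f' i j, E'.sum_mem fun i _ => E'.mul_mem (hck _) (hEE' (hfE i j))⟩
  have hHG : ∀ l s t, bv (fun i => (H l i : L)) s t = bv (G l) (a * s + b * t) (c * s + d * t) := by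
    intro l s t
    change bv (fun j => ∑ i, algebraMap k L (l i) * f' i j) s t =
      bv (fun j => ∑ i, algebraMap k L (l i) * algebraMap K L (f i j)) _ _
    rw [bv_sum (fun i => algebraMap k L (l i)) f', bv_sum (fun i => algebraMap k L (l i)) fun i j => algebraMap K L (f i j)]
    exact Finset.sum_congr rfl fun i _ => by rw [hf']
  have hGv : ∀ l (s t : K), bv (G l) (algebraMap K L s) (algebraMap K L t) =
      algebraMap K L (∑ i, algebraMap k K (l i) * bv (f i) s t) := by
    intro l s t
    change bv (fun j => ∑ i, algebraMap k L (l i) * algebraMap K L (f i j)) _ _ = _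
    rw [bv_sum (fun i => algebraMap k L (l i)) fun i j => algebraMap K L (f i j), map_sum]
    refine Finset.sum_congr rfl fun i _ => ?_
    rw [map_mul, halg, bv_map]
  have hH0 : ∀ l, (∃ j, ∑ i, algebraMap k K (l i) * f i j ≠ 0) → H l ≠ 0 := by
    rintro l ⟨j, hj⟩ h0
    apply hj
    apply (algebraMap K L).injective
    rw [map_zero]
    have h1 : G l = 0 := by
      refine eq_zero_of_bv fun s t => ?_
      have h2 := hHG l ((d * s - b * t) / (a * d - b * c)) ((-c * s + a * t) / (a * d - b * c))
      rw [h0] at h2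
      have h3 : bv (fun i => (((0 : Fin (e + 1) → E') i : E') : L)) ((d * s - b * t) / (a * d - b * c))
          ((-c * s + a * t) / (a * d - b * c)) = 0 := by simp [bv]
      have q1 : a * ((d * s - b * t) / (a * d - b * c)) + b * ((-c * s + a * t) / (a * d - b * c)) = s := by
        rw [← mul_div_assoc, ← mul_div_assoc, ← add_div, div_eq_iff hΔ]
        ring
      have q2 : c * ((d * s - b * t) / (a * d - b * c)) + d * ((-c * s + a * t) / (a * d - b * c)) = t := by
        rw [← mul_div_assoc, ← mul_div_assoc, ← add_div, div_eq_iff hΔ]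
        ring
      rw [h3, q1, q2] at h2
      exact h2.symm
    have h4 := congrFun h1 j
    have h5 : algebraMap K L (∑ i, algebraMap k K (l i) * f i j) = G l j := by
      change _ = ∑ i, algebraMap k L (l i) * algebraMap K L (f i j)
      rw [map_sum]
      exact Finset.sum_congr rfl fun i _ => by rw [map_mul, halg]
    rw [h5, h4]
    rfl
  have key := mem_of_normalised E' hE' he a b c d hΔ ha hc hac (G l₁) (G l₂) (G l₃) (G l₀) (H l₁) (H l₂) (H l₃) (H l₀)
    (hHG l₁) (hHG l₂) (hHG l₃) (hHG l₀)
    (by have h := hGv l₁ 1 0; rwa [h₁, map_one, map_zero] at h)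
    (by have h := hGv l₂ 1 1; rwa [h₂, map_one, map_zero] at h)
    (by have h := hGv l₃ 0 1; rwa [h₃, map_one, map_zero] at h)
    (by have h := hGv l₀ 1 0; rwa [h₀, map_one, map_zero] at h) (hH0 l₁ n₁) (hH0 l₂ n₂) (hH0 l₃ n₃)
  obtain ⟨haE, hbE, hcE, hdE⟩ := key
  -- the map and the points
  have hfE' : ∀ l j, algebraMap K L (f l j) ∈ E' := by
    intro l j
    refine mem_of_translate E' ⟨a, haE⟩ ⟨b, hbE⟩ ⟨c, hcE⟩ ⟨d, hdE⟩ ?_ (fun j => algebraMap K L (f l j))
      (fun j => ⟨f' l j, hEE' (hfE l j)⟩) (fun s t => hf' l s t) j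
    intro h
    exact hΔ (congrArg Subtype.val h)
  have hxE' : ∀ i, algebraMap K L (x i) ∈ E' := by
    intro i
    have h : algebraMap K L (x i) = (c + d * x' i) / (a + b * x' i) := by
      rw [eq_div_iff (hx0 i)]
      exact hx' i
    rw [h]
    exact E'.div_mem (E'.add_mem hcE (E'.mul_mem hdE (hEE' (hxE i)))) (E'.add_mem haE (E'.mul_mem hbE (hEE' (hxE i))))
  -- `K` is contained in `E'`
  have hKE' : ∀ z : K, algebraMap K L z ∈ E' := by
    intro z
    let Φ : K →ₐ[k] L := IsScalarTower.toAlgHom k K L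
    have h1 : z ∈ IntermediateField.adjoin k
        (Set.range (fun p : Fin (n + 1) × Fin (e + 1) => f p.1 p.2) ∪ Set.range x) := by
      rw [hK]
      trivial
    have h2 : IntermediateField.adjoin k
        (Set.range (fun p : Fin (n + 1) × Fin (e + 1) => f p.1 p.2) ∪ Set.range x) ≤ E'.comap Φ := by
      rw [IntermediateField.adjoin_le_iff]
      rintro w (⟨p, rfl⟩ | ⟨i, rfl⟩)
      · exact hfE' p.1 p.2
      · exact hxE' i
    exact h2 h1
  let E'' : IntermediateField K L :=
    { carrier := E'
      mul_mem' := fun ha hb => E'.mul_mem ha hb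
      one_mem' := E'.one_mem
      add_mem' := fun ha hb => E'.add_mem ha hb
      zero_mem' := E'.zero_mem
      algebraMap_mem' := hKE'
      inv_mem' := fun z hz => E'.inv_mem hz }
  have hall : ∀ z : L, z ∈ E'' := by
    intro z
    have h1 : z ∈ IntermediateField.adjoin K ({a, b, c, d} : Set L) := by
      rw [hgen]
      trivial
    have h2 : IntermediateField.adjoin K ({a, b, c, d} : Set L) ≤ E'' := by
      rw [IntermediateField.adjoin_le_iff]
      rintro w (rfl | rfl | rfl | rfl)
      · exact haE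
      · exact hbE
      · exact hcE
      · exact hdE
    exact h2 h1
  exact ⟨fun z => (hmem z).mp (hall z)⟩

end Field

section Generic

variable (k K : Type u) [Field k] [Field K] [Algebra k K]

/-- The field of rational functions in four variables. -/
noncomputable abbrev KG : Type u := FractionRing (MvPolynomial (Fin 4) K)

/-- The entries of the generic matrix. -/
noncomputable def ent (i : Fin 4) : KG K := algebraMap (MvPolynomial (Fin 4) K) (KG K) (X i)

variable {K}

theorem map_ne_zero {p : MvPolynomial (Fin 4) K} (v : Fin 4 → K) (h : eval v p ≠ 0) :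
    algebraMap (MvPolynomial (Fin 4) K) (KG K) p ≠ 0 := by
  intro h0
  rw [IsFractionRing.to_map_eq_zero_iff] at h0
  rw [h0, map_zero] at h
  exact h rfl

theorem algebraMap_KG (z : K) : algebraMap K (KG K) z = algebraMap (MvPolynomial (Fin 4) K) (KG K) (C z) :=
  IsScalarTower.algebraMap_apply K (MvPolynomial (Fin 4) K) (KG K) z

theorem det_ne_zero : ent K 0 * ent K 3 - ent K 1 * ent K 2 ≠ 0 := by
  have h := map_ne_zero (K := K) (p := X 0 * X 3 - X 1 * X 2) ![1, 0, 0, 1] (by simp)
  rwa [map_sub, map_mul, map_mul] at h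

theorem ent_ne_zero (i : Fin 4) : ent K i ≠ 0 :=
  map_ne_zero (K := K) (p := X i) (fun _ => 1) (by simp)

theorem sub_ne_zero' : ent K 0 - ent K 2 ≠ 0 := by
  have h := map_ne_zero (K := K) (p := X 0 - X 2) ![1, 0, 0, 0] (by simp)
  rwa [map_sub] at h

theorem den_ne_zero (x : K) : ent K 3 - ent K 1 * algebraMap K (KG K) x ≠ 0 := by
  have h := map_ne_zero (K := K) (p := X 3 - X 1 * C x) ![0, 0, 0, 1] (by simp)
  rwa [map_sub, map_mul, ← algebraMap_KG] at h

theorem num_ne_zero (x : K) : ent K 0 * algebraMap K (KG K) x - ent K 2 ≠ 0 := by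
  have h := map_ne_zero (K := K) (p := X 0 * C x - X 2) ![0, 0, 1, 0] (by simp)
  rwa [map_sub, map_mul, ← algebraMap_KG] at h

theorem num_ne_den (x : K) : ent K 0 * algebraMap K (KG K) x - ent K 2 ≠
    ent K 3 - ent K 1 * algebraMap K (KG K) x := by
  rw [← sub_ne_zero]
  have h := map_ne_zero (K := K) (p := X 0 * C x - X 2 - (X 3 - X 1 * C x)) ![0, 0, 1, 0] (by simp)
  rwa [map_sub, map_sub, map_sub, map_mul, map_mul, ← algebraMap_KG] at h

theorem adjoin_ent : IntermediateField.adjoin K ({ent K 0, ent K 1, ent K 2, ent K 3} : Set (KG K)) = ⊤ := by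
  rw [eq_top_iff]
  rintro z -
  have hp : ∀ p : MvPolynomial (Fin 4) K, algebraMap (MvPolynomial (Fin 4) K) (KG K) p ∈
      IntermediateField.adjoin K ({ent K 0, ent K 1, ent K 2, ent K 3} : Set (KG K)) := by
    intro p
    induction p using MvPolynomial.induction_on with
    | C a =>
      rw [← algebraMap_KG]
      exact IntermediateField.algebraMap_mem _ a
    | add p q hp hq =>
      rw [map_add]
      exact IntermediateField.add_mem _ hp hq
    | mul_X p i hp =>
      rw [map_mul]
      refine IntermediateField.mul_mem _ hp (IntermediateField.subset_adjoin _ _ ?_)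
      fin_cases i
      · exact Or.inl rfl
      · exact Or.inr (Or.inl rfl)
      · exact Or.inr (Or.inr (Or.inl rfl))
      · exact Or.inr (Or.inr (Or.inr rfl))
  obtain ⟨p, q, -, rfl⟩ := IsFractionRing.div_surjective (A := MvPolynomial (Fin 4) K) z
  exact IntermediateField.div_mem _ (hp p) (hp q)

theorem trdeg_KG : Algebra.trdeg k (KG K) = Algebra.trdeg k K + 4 := by
  have h1 := _root_.trdeg_add_eq k K (A := KG K)
  have h2 := _root_.trdeg_add_eq K (MvPolynomial (Fin 4) K) (A := KG K)
  have h3 : Algebra.trdeg K (MvPolynomial (Fin 4) K) = 4 := by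
    rw [MvPolynomial.trdeg_of_isDomain]
    simp
  have h4 : Algebra.trdeg (MvPolynomial (Fin 4) K) (KG K) = 0 := by
    have : Algebra.IsAlgebraic (MvPolynomial (Fin 4) K) (KG K) := IsLocalization.isAlgebraic _ (nonZeroDivisors (MvPolynomial (Fin 4) K))
    exact _root_.trdeg_eq_zero
  rw [← h1, ← h2, h3, h4, add_zero]

/-- The generic translate of a vector of binary forms. -/
theorem exists_translate {L : Type u} [Field L] {e : ℕ} (a b c d : L) (F : Fin (e + 1) → L) :
    ∃ F' : Fin (e + 1) → L, ∀ s t, bv F' s t = bv F (a * s + b * t) (c * s + d * t) := by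
  let Y : Fin 2 → MvPolynomial (Fin 2) L := ![C a * X 0 + C b * X 1, C c * X 0 + C d * X 1]
  have hY : ∀ j, (Y j).IsHomogeneous 1 := by
    intro j
    fin_cases j
    · exact ((isHomogeneous_C (Fin 2) a).mul (isHomogeneous_X L 0)).add
        ((isHomogeneous_C (Fin 2) b).mul (isHomogeneous_X L 1))
    · exact ((isHomogeneous_C (Fin 2) c).mul (isHomogeneous_X L 0)).add
        ((isHomogeneous_C (Fin 2) d).mul (isHomogeneous_X L 1))
  have hhom : (bind₁ Y (bp F)).IsHomogeneous e := by
    have h1 := (isHomogeneous_bp F).eval₂ C Y (fun r => isHomogeneous_C (Fin 2) r) hY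
    rw [one_mul] at h1
    exact h1
  obtain ⟨F', hF'⟩ := exists_bp hhom
  refine ⟨F', fun s t => ?_⟩
  have h1 := eval_bp F' ![s, t]
  rw [hF'] at h1
  have h2 : eval ![s, t] (bind₁ Y (bp F)) = eval (fun j => eval ![s, t] (Y j)) (bp F) := by
    rw [← coe_aeval_eq_eval, ← coe_aeval_eq_eval, RingHom.coe_coe, RingHom.coe_coe, aeval_bind₁]
  rw [h2, eval_bp] at h1
  simp only [Matrix.cons_val_zero, Matrix.cons_val_one, Y, map_add, map_mul, eval_C, eval_X] at h1
  exact h1.symm

end Generic

end K239.GLTrd
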