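import Groth.Agent.Fano.K505.KonDef
import Groth.Agent.Fano.K188.LinFun

/-!
# The chart of maps from the projective line: definitions

* `aff b : T ⟶ P1 T` the section `[1 : b]`, `inf T : T ⟶ P1 T` the section `[0 : 1]`;
* `Rec`: a smooth family of genus `0` with three disjoint sections is the projective line with the sections `[1 : 0]`, `[1 : 1]`, `[0 : 1]`;
* `QR k r`: the ring of `r`-tuples of distinct elements different from `0` and `1`; `QO k r` its spectrum;
* `genPt R n e l = Σ_j φ_{l,j} t^j`, `honP φ G m`: the coefficient of `t^m` in `G(Σ_j φ_j t^j)`;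
* `B0 k r`: the family of `(r + 3)`-pointed curves `P1 (Spec (QR k r))` with the sections `x_1, …, x_r, 0, 1, ∞`.
-/

set_option autoImplicit false

universe u

open CategoryTheory CategoryTheory.Limits AlgebraicGeometry

namespace K239.HonDef

open K390.PnSec Groth.Agent.Fdesc.LocGen Groth.Agent.Dix.ProjProper
open K188.LineDef K188.LinFun K505.KonDef

section Sections

variable {T T' : Scheme.{u}}

/-- The section `[1 : b]` of the projective line over `T`. -/
noncomputable def aff (b : Γ(T, ⊤)) : T ⟶ P1 T := (exists_pt (𝟙 T) ![1, b] 0 rfl).choose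

theorem aff_pr (b : Γ(T, ⊤)) : aff b ≫ pr T = 𝟙 T := (exists_pt (𝟙 T) ![1, b] 0 rfl).choose_spec.1

theorem givenBy_aff (b : Γ(T, ⊤)) : GivenBy (aff b ≫ toZ 1 T) (Coh.structureModule T) (fun a => ofFun ((![1, b] : Fin 2 → Γ(T, ⊤)) a)) :=
  (exists_pt (𝟙 T) ![1, b] 0 rfl).choose_spec.2

variable (T) in
/-- The section `[0 : 1]` of the projective line over `T`. -/
noncomputable def inf : T ⟶ P1 T := (exists_pt (𝟙 T) ![0, 1] 1 rfl).choose

theorem inf_pr : inf T ≫ pr T = 𝟙 T := (exists_pt (𝟙 T) ![0, 1] 1 rfl).choose_spec.1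

theorem givenBy_inf : GivenBy (inf T ≫ toZ 1 T) (Coh.structureModule T) (fun a => ofFun ((![0, 1] : Fin 2 → Γ(T, ⊤)) a)) :=
  (exists_pt (𝟙 T) ![0, 1] 1 rfl).choose_spec.2

variable (T) in
/-- The sections `[1 : 0]`, `[1 : 1]`, `[0 : 1]`. -/
noncomputable def std3 : Fin 3 → (T ⟶ P1 T) := ![aff 0, aff 1, inf T]

theorem std3_pr (i : Fin 3) : std3 T i ≫ pr T = 𝟙 T := by
  fin_cases i
  · exact aff_pr 0
  · exact aff_pr 1
  · exact inf_pr

end Sections

/-- A smooth family of curves of genus `0` with three disjoint sections is the projective line with the standard sections. -/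
def Rec : Prop :=
  ∀ {T C : Scheme.{u}} (f : C ⟶ T) (σ : Fin 3 → (T ⟶ C)) (hσ : ∀ i, σ i ≫ f = 𝟙 T), Flat f → IsProper f →
    LocallyOfFinitePresentation f →
    (∀ (Ω : Type u) [Field Ω] [IsAlgClosed Ω] (t : Spec (CommRingCat.of Ω) ⟶ T) (Xt : Scheme.{u}) (i : Xt ⟶ C)
      (q : Xt ⟶ Spec (CommRingCat.of Ω)) (hP : IsPullback i q f t),
      StMap.IsPrestablePtd Ω Xt q 0 (CurvSt.markedPt σ hσ hP) ∧ Smooth q) →
    ∃ φ : C ≅ P1 T, φ.hom ≫ pr T = f ∧ ∀ i, σ i ≫ φ.hom = std3 T i

section Equations

variable {k R : Type u} [Field k] [CommRing R]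

variable (R) in
/-- The universal curve `Σ_j φ_{l,j} t^j`. -/
noncomputable def genPt (n e : ℕ) (l : Fin (n + 1)) : Polynomial (MvPolynomial (Fin (n + 1) × Fin (e + 1)) R) :=
  ∑ j : Fin (e + 1), Polynomial.C (MvPolynomial.X (l, j)) * Polynomial.X ^ (j : ℕ)

/-- The coefficient of `t^m` in `G(Σ_j φ_j t^j)`. -/
noncomputable def honP {n : ℕ} (φ : k →+* R) (G : MvPolynomial (Fin (n + 1)) k) (d e : ℕ) (m : Fin (d * e + 1)) :
    MvPolynomial (Fin (n + 1) × Fin (e + 1)) R :=
  (MvPolynomial.eval₂ (Polynomial.C.comp (MvPolynomial.C.comp φ)) (genPt R n e) G).coeff m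

end Equations

section Q

variable (k : Type u) [Field k] (r : ℕ)

/-- The polynomial whose nonvanishing says that the `x_i` are distinct and different from `0` and `1`. -/
noncomputable def disc : MvPolynomial (Fin r) k :=
  (∏ i, MvPolynomial.X i * (MvPolynomial.X i - 1)) *
    ∏ p ∈ (Finset.univ : Finset (Fin r × Fin r)).filter (fun p => p.1 ≠ p.2), (MvPolynomial.X p.1 - MvPolynomial.X p.2)

/-- The ring of tuples of distinct elements different from `0` and `1`. -/
abbrev QR : Type u := Localization.Away (disc k r)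

/-- The universal tuple. -/
noncomputable def xU (i : Fin r) : QR k r := algebraMap (MvPolynomial (Fin r) k) (QR k r) (MvPolynomial.X i)

/-- The scheme of tuples. -/
noncomputable abbrev QO : Over (Spec (CommRingCat.of k)) :=
  Over.mk (Spec.map (CommRingCat.ofHom (algebraMap k (QR k r))))

/-- The coordinates as functions. -/
noncomputable def xF (i : Fin r) : Γ((QO k r).left, ⊤) := (Scheme.ΓSpecIso (CommRingCat.of (QR k r))).inv (xU k r i)

/-- The family of `(r + 3)`-pointed projective lines. -/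
noncomputable def B0 : CurvSt.PtFamObj (Spec (CommRingCat.of k)) (r + 3) where
  base := QO k r
  C := P1 (QO k r).left
  f := pr (QO k r).left
  sect := Fin.addCases (fun i => aff (xF k r i)) (std3 (QO k r).left)
  sect_f i := by
    refine Fin.addCases (fun i => ?_) (fun i => ?_) i
    · rw [Fin.addCases_left]; exact aff_pr _
    · rw [Fin.addCases_right]; exact std3_pr i

end Q

end K239.HonDef
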