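import Groth.Agent.Fano.K239.HonDef
import Groth.Agent.Fano.K393.ObjChart

/-!
# The chart of maps from the projective line: definitions, part 2

* `Oe G q e`: `O(e)` on `P1 T` with the basis `X_0^(e-j) X_1^j`, its properties as a linear chart, and the values at points `[x_0 : x_1]`;
* `c0 hi hp`: the chart of curves given by `B0`;
* `l0 o he`: the linear chart given by `O(e)`.
-/

set_option autoImplicit false

universe u

open CategoryTheory CategoryTheory.Limits AlgebraicGeometry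

namespace K239.HonDef

open K390.PnSec Groth.Agent.Fdesc.LocGen Groth.Agent.Dix.ProjProper
open K188.LineDef K188.LinFun K745.ConDef K505.KonDef W4swstmapratcurves

variable {k : Type u} [Field k] {n d : ℕ}

/-- The module `O(e)` on the projective line over `T`, with the basis `X_0^(e-j) X_1^j`. -/
structure Oe (G : LefPen.Form n k d) {T : Scheme.{u}} (q : T ⟶ Spec (CommRingCat.of k)) (e : ℕ) where
  /-- the module -/
  L : (P1 T).Modules
  inv : PicF.IsInvertible L
  /-- the basis -/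
  ε : Fin (e + 1) → Γ(L, ⊤)
  basis : ∀ {T' C' : Scheme.{u}} (i : C' ⟶ P1 T) (f' : C' ⟶ T') (g : T' ⟶ T), IsPullback i f' (pr T) g →
    ∀ s : Γ((Scheme.Modules.pullback i).obj L, ⊤), ∃! a : Fin (e + 1) → Γ(T', ⊤),
      s = ∑ j, (f'.appTop (a j)) • pullTop i (ε j)
  deg : ∀ (Ω : Type u) [Field Ω] [IsAlgClosed Ω] (t : Spec (CommRingCat.of Ω) ⟶ T) (Xt : Scheme.{u})
    (i : Xt ⟶ P1 T) (q : Xt ⟶ Spec (CommRingCat.of Ω)), IsPullback i q (pr T) t →
    letI : Xt.Over (Spec (CommRingCat.of Ω)) := ⟨q⟩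
    Curv2.deg Ω Xt ((Scheme.Modules.pullback i).obj L) 1 = e
  van : ∀ {T' C' : Scheme.{u}} (i : C' ⟶ P1 T) (f' : C' ⟶ T') (g : T' ⟶ T), IsPullback i f' (pr T) g →
    ∀ φ : Fin (n + 1) → Fin (e + 1) → Γ(T', ⊤),
      Van f' (lc f' (fun j => pullTop i (ε j)) φ) (G.1.map (kmap (g ≫ q))) ↔
        ∀ m, MvPolynomial.eval₂ g.appTop.hom (fun p => φ p.1 p.2) (honP (kmap q) G.1 d e m) = 0
  val : ∀ {Y : Scheme.{u}} (ψ : Y ⟶ P1 T) (x : Fin 2 → Γ(Y, ⊤)),
    GivenBy (ψ ≫ toZ 1 T) (Coh.structureModule Y) (fun a => ofFun (x a)) →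
    ∃ τ : (Scheme.Modules.pullback ψ).obj L ≅ Coh.structureModule Y,
      ∀ j, τ.hom.app ⊤ (pullTop ψ (ε j)) = ofFun (x 0 ^ (e - (j : ℕ)) * x 1 ^ (j : ℕ))

section Chart

variable (r : ℕ)

variable (k) in
/-- The products of `B0` with all prestable families exist. -/
def ProdB0 : Prop := ∀ Y : CurvSt.PtFamObj (Spec (CommRingCat.of k)) (r + 3), IsPre Y →
    ∃ (Z : CurvSt.PtFamObj (Spec (CommRingCat.of k)) (r + 3)) (α : Z ⟶ B0 k r) (β : Z ⟶ Y),
      (∀ (Z' : CurvSt.PtFamObj (Spec (CommRingCat.of k)) (r + 3)) (a : Z' ⟶ B0 k r) (b : Z' ⟶ Y),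
        ∃! z : Z' ⟶ Z, z ≫ α = a ∧ z ≫ β = b) ∧ Etale β.base.left

instance locallyOfFiniteType_QO : LocallyOfFiniteType (QO k r).hom := by
  have h : Algebra.FiniteType k (QR k r) :=
    Algebra.FiniteType.trans (inferInstanceAs (Algebra.FiniteType k (MvPolynomial (Fin r) k)))
      (IsLocalization.finiteType_of_monoid_fg (Submonoid.powers (disc k r)) _)
  change LocallyOfFiniteType (Spec.map (CommRingCat.ofHom (algebraMap k (QR k r))))
  rw [HasRingHomProperty.Spec_iff (P := @LocallyOfFiniteType)]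
  exact RingHom.finiteType_algebraMap.mpr h

/-- The chart of curves given by `B0`. -/
noncomputable def c0 (hi : IsPre (B0 k r)) (hp : ProdB0 k r) : CrvChart k (r + 3) where
  B := B0 k r
  isPre := hi
  isAffine := inferInstanceAs (IsAffine (Spec (CommRingCat.of (QR k r))))
  locallyOfFiniteType := locallyOfFiniteType_QO r
  prod := hp

variable {r} {hi : IsPre (B0 k r)} {hp : ProdB0 k r} {G : LefPen.Form n k d} {e : ℕ}

/-- If `O(e)` has a section generating everywhere on a geometric fibre then `e = 0`. -/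
def OeStab {T : Scheme.{u}} {q : T ⟶ Spec (CommRingCat.of k)} (o : Oe G q e) : Prop :=
  ∀ (Ω : Type u) [Field Ω] [IsAlgClosed Ω] (t : Spec (CommRingCat.of Ω) ⟶ T) (Xt : Scheme.{u})
    (i : Xt ⟶ P1 T) (q : Xt ⟶ Spec (CommRingCat.of Ω)), IsPullback i q (pr T) t → ∀ E : Set Xt,
    CurvSt.IsSmRatComp Ω Xt q E →
    ¬ (∃ s : Γ((Scheme.Modules.pullback i).obj o.L, ⊤), E ⊆ (CohB1.genLocus _ (homOf s) : Set Xt))

/-- The linear chart given by `O(e)`. -/
noncomputable def l0 (o : Oe G (QO k r).hom e) (ho : OeStab o) : LinChart (m := 3) (c0 r hi hp) G e where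
  L := o.L
  inv := o.inv
  ε := o.ε
  basis := o.basis
  deg := o.deg
  stab := fun Ω _ _ t Xt i q hP E hE h => absurd h (ho Ω t Xt i q hP E hE)
  P := honP (kmap (QO k r).hom) G.1 d e
  P_iff := o.van

end Chart

end K239.HonDef
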