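import Groth.Agent.Variety.K426.DimKit
import Groth.Agent.Variety.K424.TrdMap
import Mathlib.AlgebraicGeometry.ResidueField

/-!
# Residue fields of open subschemes of affine schemes

* `mem_of_forall`: a subfield of the residue field of a point of an open subscheme of `Spec A` which contains the values of the
  elements of `A` is everything;
* `trd_add_le_of_isAlgebraic`: transcendence degrees of the image of a field-valued point.
-/

set_option autoImplicit false

universe u

open CategoryTheory CategoryTheory.Limits AlgebraicGeometry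
open Groth.Agent Groth.Agent.VarietyB

namespace K239.ResGen

theorem mem_of_forall_spec {A : CommRingCat.{u}} (x : Spec A) (E : Subfield ((Spec A).residueField x))
    (h : ∀ a : A, (Spec A).Γevaluation x ((Scheme.ΓSpecIso A).inv a) ∈ E) (z : (Spec A).residueField x) : z ∈ E := by
  have hx : x.asIdeal.IsPrime := x.isPrime
  obtain ⟨w, rfl⟩ : ∃ w, (Scheme.Spec.residueFieldIso A x).inv w = z :=
    ⟨(Scheme.Spec.residueFieldIso A x).hom z, by
      rw [← CommRingCat.comp_apply, (Scheme.Spec.residueFieldIso A x).hom_inv_id, CommRingCat.id_apply]⟩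
  have key : ∀ a : A, (Scheme.Spec.residueFieldIso A x).inv (algebraMap A x.asIdeal.ResidueField a) ∈ E := by
    intro a
    have h1 := congrArg (fun f => f.hom a) (Scheme.Spec.algebraMap_residueFieldIso_inv A x)
    have h2 : (Scheme.Spec.residueFieldIso A x).inv (algebraMap A x.asIdeal.ResidueField a) =
        (Spec A).Γevaluation x ((Scheme.ΓSpecIso A).inv a) := h1
    rw [h2]
    exact h a
  obtain ⟨a, b, hb, rfl⟩ := IsFractionRing.div_surjective (A := A ⧸ x.asIdeal) (K := x.asIdeal.ResidueField) w
  obtain ⟨a, rfl⟩ := Ideal.Quotient.mk_surjective a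
  obtain ⟨b, rfl⟩ := Ideal.Quotient.mk_surjective b
  have h3 : ∀ c : A, algebraMap (A ⧸ x.asIdeal) x.asIdeal.ResidueField (Ideal.Quotient.mk _ c) =
      algebraMap A x.asIdeal.ResidueField c := fun c =>
    (IsScalarTower.algebraMap_apply A (A ⧸ x.asIdeal) x.asIdeal.ResidueField c).symm
  rw [h3, h3, map_div₀]
  exact E.div_mem (key a) (key b)

theorem mem_of_forall {B : Scheme.{u}} {A : CommRingCat.{u}} (j : B ⟶ Spec A) [IsOpenImmersion j] (b : B)
    (E : Subfield (B.residueField b))
    (h : ∀ a : A, B.Γevaluation b (j.appTop ((Scheme.ΓSpecIso A).inv a)) ∈ E) (z : B.residueField b) : z ∈ E := by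
  obtain ⟨w, rfl⟩ : ∃ w, j.residueFieldMap b w = z :=
    ⟨inv (j.residueFieldMap b) z, by
      rw [← CommRingCat.comp_apply, IsIso.inv_hom_id, CommRingCat.id_apply]⟩
  refine mem_of_forall_spec (j b) (E.comap (j.residueFieldMap b).hom) (fun a => ?_) w
  change j.residueFieldMap b ((Spec A).Γevaluation (j b) ((Scheme.ΓSpecIso A).inv a)) ∈ E
  rw [Scheme.Γevaluation_naturality_apply]
  exact h a

/-- The homomorphism from the residue field at the image of a field-valued point. -/
noncomputable def ρ {B : Scheme.{u}} {L : Type u} [Field L] (y : Spec (CommRingCat.of L) ⟶ B) :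
    B.residueField (y (IsLocalRing.closedPoint L)) →+* L :=
  (B.descResidueField (Scheme.stalkClosedPointTo y)).hom

theorem ρ_evaluation {B : Scheme.{u}} {L : Type u} [Field L] (y : Spec (CommRingCat.of L) ⟶ B) (a : Γ(B, ⊤)) :
    ρ y (B.Γevaluation (y (IsLocalRing.closedPoint L)) a) = (Scheme.ΓSpecIso (CommRingCat.of L)).hom (y.appTop a) := by
  have h2 := congrArg (fun f => f.hom a) (Scheme.germ_stalkClosedPointTo y ⊤ trivial)
  have h3 : ρ y (B.Γevaluation (y (IsLocalRing.closedPoint L)) a) =
      Scheme.stalkClosedPointTo y (B.presheaf.germ ⊤ _ trivial a) := by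
    have h4 := congrArg (fun f => f.hom (B.presheaf.germ ⊤ (y (IsLocalRing.closedPoint L)) trivial a))
      (Scheme.residue_descResidueField (X := B) (Scheme.stalkClosedPointTo y))
    exact h4
  rw [h3]
  refine h2.trans ?_
  simp

section Trd

variable (k : Type u) [Field k] {B : Scheme.{u}} [B.Over (Spec (CommRingCat.of k))]
  [LocallyOfFiniteType (B ↘ (Spec (CommRingCat.of k)))]

/-- The transcendence degree of the image of a field-valued point, if the field is algebraic over a subfield generated by values
of functions. -/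
theorem trd_eq_of_isAlgebraic {L : Type u} [Field L] [Algebra k L] (y : Spec (CommRingCat.of L) ⟶ B)
    (hy : y ≫ (B ↘ (Spec (CommRingCat.of k))) = Spec.map (CommRingCat.ofHom (algebraMap k L)))
    (h : ∀ E : IntermediateField k L, (∀ a : Γ(B, ⊤), (Scheme.ΓSpecIso (CommRingCat.of L)).hom (y.appTop a) ∈ E) →
      Algebra.IsAlgebraic E L) :
    (DimSch.trd k B (y (IsLocalRing.closedPoint L)) : Cardinal.{u}) = Algebra.trdeg k L := by
  let q := y (IsLocalRing.closedPoint L)
  let _ := Curv2.resAlgebra k B q
  let _ := (ρ y).toAlgebra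
  have hres : (ρ y).comp (Curv2.resMap k B q) = algebraMap k L := by
    ext c
    have h1 := ρ_evaluation y (Coh.toGlobal (B ↘ Spec (CommRingCat.of k)) c)
    have h2 : (ρ y).comp (Curv2.resMap k B q) c =
        (Scheme.ΓSpecIso (CommRingCat.of L)).hom (y.appTop (Coh.toGlobal (B ↘ Spec (CommRingCat.of k)) c)) := h1
    rw [h2]
    have h3 : y.appTop (Coh.toGlobal (B ↘ Spec (CommRingCat.of k)) c) =
        (y ≫ (B ↘ Spec (CommRingCat.of k))).appTop ((Scheme.ΓSpecIso (CommRingCat.of k)).inv c) := by
      rw [Scheme.Hom.comp_appTop]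
      rfl
    rw [h3, hy]
    have h4 := congrArg (fun f => f.hom c) (Scheme.ΓSpecIso_inv_naturality (CommRingCat.ofHom (algebraMap k L)))
    have h5 : (Spec.map (CommRingCat.ofHom (algebraMap k L))).appTop ((Scheme.ΓSpecIso (CommRingCat.of k)).inv c) =
        (Scheme.ΓSpecIso (CommRingCat.of L)).inv (algebraMap k L c) := h4.symm
    rw [h5, ← CommRingCat.comp_apply, Iso.inv_hom_id, CommRingCat.id_apply]
  have : IsScalarTower k (B.residueField q) L := IsScalarTower.of_algebraMap_eq' hres.symm
  let Φ : B.residueField q →ₐ[k] L := IsScalarTower.toAlgHom k (B.residueField q) L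
  have halgE : Algebra.IsAlgebraic Φ.fieldRange L := h Φ.fieldRange fun a => ⟨B.Γevaluation q a, ρ_evaluation y a⟩
  have halg : Algebra.IsAlgebraic (B.residueField q) L := by
    refine Algebra.IsAlgebraic.of_ringHom_of_comp_eq (S := Φ.fieldRange) (B := L) Φ.rangeRestrict.toRingHom
      (RingHom.id L) ?_ Function.injective_id ?_
    · intro z
      obtain ⟨w, hw⟩ := z.2
      exact ⟨w, Subtype.ext hw⟩
    · ext w
      rfl
  have h6 := _root_.trdeg_add_eq k (B.residueField q) (A := L)
  rw [_root_.trdeg_eq_zero (R := B.residueField q) (A := L), add_zero, DimSch.trdeg_eq_trd k q] at h6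
  exact h6

end Trd

end K239.ResGen
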