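import Groth.Agent.Variety.K426.Cut
import Groth.Agent.Variety.K426.DimFib
import Groth.Agent.Fano.K980.QuotTop
import Groth.Agent.Sga3C.GenFlat

/-!
# Irreducibility and dimension of a space covered by open images of schemes of finite type over a field

`M` a topological space, `π_i : V_i → M` continuous open maps, jointly surjective, `V_i` locally of finite type over the field `k`;
`c_i` is the dimension of the orbits (fibres) of `π_i`.

* `topologicalKrullDim_le`: `dim M ≤ D` if `trd v ≤ D + c_i` and every `v : V_i` has a generization `v'` in the same fibre of `π_i` with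
  `c_i ≤ trd v'`;
* `le_topologicalKrullDim`: `D ≤ dim M` if there is a scheme `S` of dimension at least `D` over some `B = V_i` whose points have
  orbits of dimension `c` more;
* `irreducibleSpace_and_dim`: the combination.
-/

set_option autoImplicit false

universe u v

open CategoryTheory CategoryTheory.Limits AlgebraicGeometry Topology TopologicalSpace
open Groth.Agent Groth.Agent.VarietyB

namespace K239.StackDim

variable (k : Type u) [Field k] {M : Type v} [TopologicalSpace M]

section Upper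

variable {V : Scheme.{u}} [V.Over (Spec (CommRingCat.of k))]
  [LocallyOfFiniteType (V ↘ (Spec (CommRingCat.of k)))]

include k in
/-- A point of the preimage of a closed irreducible subset has a generization in this preimage which maps to the generic point of the
subset and is maximal. -/
theorem exists_generic (π : V → M) (hc : Continuous π) (ho : IsOpenMap π) (N : Set M) (hN : IsIrreducible N)
    (hNc : IsClosed N) (x : V) (hx : π x ∈ N) :
    ∃ y, y ⤳ x ∧ π y ∈ N ∧ closure {π y} = N ∧ ∀ q, π q ∈ N → q ⤳ y → q = y := by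
  obtain ⟨U, hU, hxU, -⟩ := exists_isAffineOpen_mem_and_subset (X := V) (U := ⊤) (x := x) trivial
  have h0 : IsLocallyNoetherian V := LocallyOfFiniteType.isLocallyNoetherian (V ↘ (Spec (CommRingCat.of k)))
  have h2 : IsNoetherianRing Γ(V, U) := IsLocallyNoetherian.component_noetherian ⟨U, hU⟩
  let e : ↥U ≃ₜ PrimeSpectrum Γ(V, U) := Scheme.homeoOfIso hU.isoSpec
  have h3 : NoetherianSpace {z : V // z ∈ U} := e.isEmbedding.isInducing.noetherianSpace
  have h4 : QuasiSober {z : V // z ∈ U} := U.isOpenEmbedding'.quasiSober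
  have h5 : T0Space {z : V // z ∈ U} := U.isOpenEmbedding'.isEmbedding.t0Space
  obtain ⟨y, hyx, hyN, hy, hmax⟩ := K980.QuotTop.exists_generic (fun z : {z : V // z ∈ U} => π z.1)
    (hc.comp continuous_subtype_val) (ho.comp U.isOpenEmbedding'.isOpenMap) N hN hNc ⟨x, hxU⟩ hx
  refine ⟨y.1, hyx.map continuous_subtype_val, hyN, hy, fun q hq hqy => ?_⟩
  have hqU : q ∈ U := hqy.mem_open U.isOpen y.2
  exact congrArg Subtype.val (hmax ⟨q, hqU⟩ hq (Topology.IsInducing.subtypeVal.specializes_iff.mp hqy))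

include k in
/-- Maximal points lie in every dense open subset. -/
theorem mem_of_dense {W : Set V} (hW : IsOpen W) (hd : Dense W) (η : V) (hη : ∀ q, q ⤳ η → q = η) : η ∈ W := by
  obtain ⟨U, hU, hxU, -⟩ := exists_isAffineOpen_mem_and_subset (X := V) (U := ⊤) (x := η) trivial
  have h0 : IsLocallyNoetherian V := LocallyOfFiniteType.isLocallyNoetherian (V ↘ (Spec (CommRingCat.of k)))
  have h2 : IsNoetherianRing Γ(V, U) := IsLocallyNoetherian.component_noetherian ⟨U, hU⟩
  let e : ↥U ≃ₜ PrimeSpectrum Γ(V, U) := Scheme.homeoOfIso hU.isoSpec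
  have h3 : NoetherianSpace {z : V // z ∈ U} := e.isEmbedding.isInducing.noetherianSpace
  have h4 : QuasiSober {z : V // z ∈ U} := U.isOpenEmbedding'.quasiSober
  refine Groth.Agent.Sga3C.GenFlat.mem_of_dense (T := {z : V // z ∈ U}) (W := Subtype.val ⁻¹' W)
    (hW.preimage continuous_subtype_val) (hd.preimage U.isOpenEmbedding'.isOpenMap) ⟨η, hxU⟩ fun q hq => ?_
  have h5 : q.1 ⤳ η := hq.map continuous_subtype_val
  have h6 : q = ⟨η, hxU⟩ := Subtype.ext (hη _ h5)
  rw [h6]

end Upper

/-- Upper bound for the dimension. -/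
theorem topologicalKrullDim_le {ι : Type*} (V : ι → Scheme.{u}) [∀ i, (V i).Over (Spec (CommRingCat.of k))]
    [∀ i, LocallyOfFiniteType (V i ↘ (Spec (CommRingCat.of k)))] (π : ∀ i, V i → M)
    (hc : ∀ i, Continuous (π i)) (ho : ∀ i, IsOpenMap (π i)) (hs : ∀ z : M, ∃ i v, π i v = z) (c : ι → ℕ) (D : ℕ)
    (hD : ∀ i v, DimSch.trd k (V i) v ≤ D + c i)
    (horb : ∀ i v, ∃ v', v' ⤳ v ∧ π i v' = π i v ∧ c i ≤ DimSch.trd k (V i) v') :
    topologicalKrullDim M ≤ D := by
  refine iSup_le fun s => ?_
  obtain ⟨z, hz⟩ := (s ⟨0, by omega⟩).isIrreducible.1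
  obtain ⟨i, x, rfl⟩ := hs z
  have key : ∀ j : ℕ, ∀ hj : j ≤ s.length, ∃ y : V i, closure {π i y} = (s ⟨j, by omega⟩ : Set M) ∧
      j + c i ≤ DimSch.trd k (V i) y := by
    intro j
    induction j with
    | zero =>
      intro hj
      obtain ⟨y, -, hyN, hy, hmax⟩ := exists_generic k (π i) (hc i) (ho i) _ (s ⟨0, by omega⟩).isIrreducible
        (s ⟨0, by omega⟩).isClosed x hz
      obtain ⟨y', hy'y, hy', hcy⟩ := horb i y
      have h1 := hmax y' (by rw [hy']; exact hyN) hy'y
      subst h1
      exact ⟨y', hy, by omega⟩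
    | succ j ih =>
      intro hj
      obtain ⟨x, hx, hcx⟩ := ih (by omega)
      have hlt : s ⟨j, by omega⟩ < s ⟨j + 1, by omega⟩ := s.strictMono (by
        rw [Fin.lt_def]; exact Nat.lt_succ_self j)
      have hxN : π i x ∈ (s ⟨j + 1, by omega⟩ : Set M) := by
        apply (show (s ⟨j, by omega⟩ : Set M) ⊆ _ from hlt.le)
        rw [← hx]
        exact subset_closure rfl
      obtain ⟨y, hyx, hyN, hy, -⟩ := exists_generic k (π i) (hc i) (ho i) _ (s ⟨j + 1, by omega⟩).isIrreducible
        (s ⟨j + 1, by omega⟩).isClosed x hxN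
      refine ⟨y, hy, ?_⟩
      have hne : y ≠ x := by
        intro h
        rw [h, hx] at hy
        exact hlt.ne (SetLike.coe_injective hy)
      have h2 := K426.Cut.trd_lt k hyx hne
      omega
  obtain ⟨y, -, hy⟩ := key s.length le_rfl
  have h1 := hD i y
  have h2 : s.length ≤ D := by omega
  exact_mod_cast h2

/-- Points of the orbit closure have bounded transcendence degree as soon as the orbit is covered by a family of finite type with
fibres of dimension at most `c`. -/
theorem trd_le_of_mem_closure_image {B P : Scheme.{u}} [B.Over (Spec (CommRingCat.of k))]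
    [LocallyOfFiniteType (B ↘ (Spec (CommRingCat.of k)))] [P.Over (Spec (CommRingCat.of k))]
    [LocallyOfFiniteType (P ↘ (Spec (CommRingCat.of k)))] (p₁ p₂ : P ⟶ B)
    (h₁ : p₁ ≫ (B ↘ (Spec (CommRingCat.of k))) = P ↘ (Spec (CommRingCat.of k)))
    (h₂ : p₂ ≫ (B ↘ (Spec (CommRingCat.of k))) = P ↘ (Spec (CommRingCat.of k))) [QuasiCompact p₁] (c : ℕ)
    (hc : ∀ p : P, DimSch.trd k P p ≤ DimSch.trd k B (p₁ p) + c) (b b' : B)
    (hb : b' ∈ closure (p₂ '' (p₁ ⁻¹' {b}))) : DimSch.trd k B b' ≤ DimSch.trd k B b + c := by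
  have hft : LocallyOfFiniteType p₁ := K426.DimKit.locallyOfFiniteType_of_over k p₁ h₁
  let F := p₁.fiber b
  have hF : CompactSpace F := inferInstance
  have hN : IsLocallyNoetherian F := by
    have : LocallyOfFiniteType (p₁.fiberToSpecResidueField b) :=
      inferInstanceAs (LocallyOfFiniteType (pullback.snd p₁ (B.fromSpecResidueField b)))
    exact LocallyOfFiniteType.isLocallyNoetherian (p₁.fiberToSpecResidueField b)
  have hN' : IsNoetherian F := {}
  have hNS : NoetherianSpace F := inferInstance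
  have h3 : p₂ '' (p₁ ⁻¹' {b}) = Set.range (fun z : F => p₂ (p₁.fiberι b z)) := by
    rw [← Scheme.Hom.range_fiberι, ← Set.range_comp]
    rfl
  rw [h3] at hb
  -- finitely many components
  obtain ⟨S, hSfin, hSc, hSi, hS⟩ :=
    NoetherianSpace.exists_finite_set_isClosed_irreducible (isClosed_univ (X := F))
  have hcont : Continuous (fun z : F => p₂ (p₁.fiberι b z)) := by fun_prop
  have h4 : Set.range (fun z : F => p₂ (p₁.fiberι b z)) = ⋃ Z ∈ S, (fun z : F => p₂ (p₁.fiberι b z)) '' Z := by
    rw [← Set.image_univ, hS, Set.sUnion_eq_biUnion, Set.image_iUnion₂]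
  rw [h4, hSfin.closure_biUnion, Set.mem_iUnion₂] at hb
  obtain ⟨Z, hZ, hbZ⟩ := hb
  obtain ⟨η, hη⟩ := QuasiSober.sober (hSi Z hZ) (hSc Z hZ)
  have h5 : p₂ (p₁.fiberι b η) ⤳ b' := by
    rw [specializes_iff_mem_closure]
    refine closure_minimal ?_ isClosed_closure hbZ
    rintro _ ⟨z, hz, rfl⟩
    exact ((hη.specializes hz).map hcont).mem_closure
  calc DimSch.trd k B b' ≤ DimSch.trd k B (p₂ (p₁.fiberι b η)) := K426.DimFib.trd_le_of_specializes k h5
    _ ≤ DimSch.trd k P (p₁.fiberι b η) := K426.DimKit.trd_map_le k p₂ h₂ _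
    _ ≤ DimSch.trd k B (p₁ (p₁.fiberι b η)) + c := hc _
    _ = DimSch.trd k B b + c := by
        have h6 : p₁.fiberι b η ∈ p₁ ⁻¹' {b} := by
          rw [← Scheme.Hom.range_fiberι]
          exact ⟨η, rfl⟩
        rw [show p₁ (p₁.fiberι b η) = b from h6]

/-- Lower bound for the dimension. -/
theorem le_topologicalKrullDim {B S : Scheme.{u}} [B.Over (Spec (CommRingCat.of k))]
    [LocallyOfFiniteType (B ↘ (Spec (CommRingCat.of k)))] [S.Over (Spec (CommRingCat.of k))]
    [LocallyOfFiniteType (S ↘ (Spec (CommRingCat.of k)))] (π : B → M) (ho : IsOpenMap π) (hcont : Continuous π)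
    (j : S ⟶ B) (c D : ℕ)
    (hD : (D : WithBot ℕ∞) ≤ topologicalKrullDim S)
    (hcl : ∀ b b' : B, b' ∈ closure (π ⁻¹' {π b}) → DimSch.trd k B b' ≤ DimSch.trd k B b + c)
    (horb : ∀ s : S, ∃ q : B, π q = π (j s) ∧ DimSch.trd k S s + c ≤ DimSch.trd k B q)
    (hj : ∀ s : S, DimSch.trd k B (j s) ≤ DimSch.trd k S s) :
    (D : WithBot ℕ∞) ≤ topologicalKrullDim M := by
  let Φ : IrreducibleCloseds S → IrreducibleCloseds M := fun Z =>
    { carrier := closure {π (j (QuasiSober.sober Z.isIrreducible Z.isClosed).choose)}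
      isIrreducible' := isIrreducible_singleton.closure
      isClosed' := isClosed_closure }
  have hΦ : StrictMono Φ := by
    intro Z W hZW
    have hz := (QuasiSober.sober Z.isIrreducible Z.isClosed).choose_spec
    have hw := (QuasiSober.sober W.isIrreducible W.isClosed).choose_spec
    set z := (QuasiSober.sober Z.isIrreducible Z.isClosed).choose with hzdef
    set w := (QuasiSober.sober W.isIrreducible W.isClosed).choose with hwdef
    have hwz : w ⤳ z := hw.specializes (hZW.le hz.mem)
    have hne : w ≠ z := by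
      intro h
      apply hZW.ne
      apply SetLike.coe_injective
      rw [← hz.def, ← hw.def, h]
    have hlt := K426.Cut.trd_lt k hwz hne
    have hwzM : π (j w) ⤳ π (j z) := (hwz.map j.continuous).map hcont
    refine lt_of_le_of_ne ?_ ?_
    · change closure {π (j z)} ⊆ closure {π (j w)}
      exact hwzM.closure_subset
    · intro h
      have h' : closure {π (j z)} = closure {π (j w)} := congrArg (fun Q : IrreducibleCloseds M => (Q : Set M)) h
      obtain ⟨q, hq, hqt⟩ := horb w
      have h1 : q ∈ π ⁻¹' closure {π (j z)} := by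
        change π q ∈ closure {π (j z)}
        rw [hq, h']
        exact subset_closure rfl
      rw [ho.preimage_closure_eq_closure_preimage hcont] at h1
      have h2 := hcl (j z) q h1
      have h3 := hj z
      omega
  refine hD.trans ?_
  exact Order.krullDim_le_of_strictMono Φ hΦ

/-- Irreducibility and dimension: `V_i → M` the charts, `B → M` the chart of the main part. -/
theorem irreducibleSpace_and_dim {ι : Type*} (V : ι → Scheme.{u}) [∀ i, (V i).Over (Spec (CommRingCat.of k))]
    [∀ i, LocallyOfFiniteType (V i ↘ (Spec (CommRingCat.of k)))] (π : ∀ i, V i → M)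
    (hc : ∀ i, Continuous (π i)) (ho : ∀ i, IsOpenMap (π i)) (hs : ∀ z : M, ∃ i v, π i v = z) (c : ι → ℕ) (D : ℕ)
    {B S : Scheme.{u}} [B.Over (Spec (CommRingCat.of k))]
    [LocallyOfFiniteType (B ↘ (Spec (CommRingCat.of k)))] [S.Over (Spec (CommRingCat.of k))]
    [LocallyOfFiniteType (S ↘ (Spec (CommRingCat.of k)))] [IrreducibleSpace B] (ρ : B → M) (hρo : IsOpenMap ρ)
    (hρc : Continuous ρ) (j : S ⟶ B) (a : ℕ) (hB : topologicalKrullDim B ≤ (D + a : ℕ))
    (hdense : ∀ i, Dense (π i ⁻¹' Set.range ρ))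
    (hcmp : ∀ i (v : V i) (b : B), π i v = ρ b → ∃ b' : B,
      DimSch.trd k (V i) v + a ≤ DimSch.trd k B b' + c i)
    (horb : ∀ i v, ∃ v', v' ⤳ v ∧ π i v' = π i v ∧ c i ≤ DimSch.trd k (V i) v')
    (hS : (D : WithBot ℕ∞) ≤ topologicalKrullDim S)
    (hcl : ∀ b b' : B, b' ∈ closure (ρ ⁻¹' {ρ b}) → DimSch.trd k B b' ≤ DimSch.trd k B b + a)
    (hSorb : ∀ s : S, ∃ q : B, ρ q = ρ (j s) ∧ DimSch.trd k S s + a ≤ DimSch.trd k B q)
    (hj : ∀ s : S, DimSch.trd k B (j s) ≤ DimSch.trd k S s) :
    IrreducibleSpace M ∧ topologicalKrullDim M = D := by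
  refine ⟨?_, le_antisymm ?_ ?_⟩
  · have h1 : IsIrreducible (Set.range ρ) := by
      have h2 := (IrreducibleSpace.isIrreducible_univ B).image ρ hρc.continuousOn
      rwa [Set.image_univ] at h2
    have h2 : Dense (Set.range ρ) := by
      rw [dense_iff_inter_open]
      rintro W hW ⟨z, hz⟩
      obtain ⟨i, v, rfl⟩ := hs z
      obtain ⟨w, hw, hw'⟩ := (hdense i).inter_open_nonempty _ (hW.preimage (hc i)) ⟨v, hz⟩
      exact ⟨π i w, hw, hw'⟩
    have h3 := h1.closure
    rw [h2.closure_eq] at h3
    exact (irreducibleSpace_def M).mpr h3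
  · refine topologicalKrullDim_le k V π hc ho hs c D (fun i v => ?_) horb
    obtain ⟨η, hηv, hη⟩ := K426.DimFib.exists_maximal_generization v
    have h1 : η ∈ π i ⁻¹' Set.range ρ :=
      mem_of_dense k (hρo.isOpen_range.preimage (hc i)) (hdense i) η hη
    obtain ⟨b, hb⟩ := h1
    obtain ⟨b', hb'⟩ := hcmp i η b hb.symm
    have h2 := K426.DimFib.trd_le_of_specializes k hηv
    have h3 : DimSch.trd k B b' ≤ D + a := by
      have h4 := (K426.DimKit.trd_le_dim k B b').trans hB
      exact_mod_cast h4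
    omega
  · exact le_topologicalKrullDim k ρ hρo hρc j a D hS hcl hSorb hj

end K239.StackDim
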