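import Groth.Agent.Fano.K239.HonDef2
import Groth.Agent.Fano.K239.ResGen
import Groth.Agent.Fano.K239.GLTrd
import Groth.Agent.Fano.K393.ObjDim
import Groth.Agent.Fano.K11.UnivKit

/-!
# The chart of maps from the projective line: residue fields

* `toU_appTop`: functions on the base of a linear chart;
* `adjoin_eq_top`: the residue field of a point of the base of the universal family is generated by the values of the matrix `φ`
  and of the coordinates `x_i` of the marked points.
-/

set_option autoImplicit false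

universe u

open CategoryTheory CategoryTheory.Limits AlgebraicGeometry
open Groth.Agent Groth.Agent.VarietyB

namespace K239.HonGen

open K390.PnSec Groth.Agent.Fdesc.LocGen Groth.Agent.Dix.ProjProper
open K188.LineDef K188.LinFun K745.ConDef K505.KonDef K239.HonDef W4swstmapratcurves K11.UnivKit

theorem isoSpec_inv_appTop (T : Scheme.{u}) [IsAffine T] : T.isoSpec.inv.appTop = (Scheme.ΓSpecIso Γ(T, ⊤)).inv := by
  have h2 : T.isoSpec.hom.appTop = (Scheme.ΓSpecIso Γ(T, ⊤)).hom := by
    rw [Scheme.isoSpec_hom, Scheme.toSpecΓ_appTop]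
  rw [← Iso.comp_hom_eq_id, ← h2, ← Scheme.Hom.comp_appTop, T.isoSpec.hom_inv_id, Scheme.Hom.id_appTop]

section Lin

variable {k : Type u} [Field k] {r m n d e : ℕ} {G : LefPen.Form n k d} {c : CrvChart k (r + m)}

theorem toU_appTop (ℓ : LinChart c G e) (a : c.R) :
    ℓ.toU.appTop a = (Scheme.ΓSpecIso (CommRingCat.of ℓ.RV)).inv (algebraMap c.R ℓ.RV a) := by
  have := c.isAffine
  change (Spec.map (CommRingCat.ofHom (algebraMap c.R ℓ.RV)) ≫ (c.U.left.isoSpec).inv).appTop a = _
  rw [Scheme.Hom.comp_appTop, isoSpec_inv_appTop]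
  have h4 := congrArg (fun f => f.hom a) (Scheme.ΓSpecIso_inv_naturality (CommRingCat.ofHom (algebraMap c.R ℓ.RV)))
  exact h4.symm

variable (ℓ : LinChart c G e) (Un : Univ ℓ)

/-- Pulling back functions from the spectrum of `RV`. -/
theorem j_mk_C (a : c.R) : Un.j.appTop ((Scheme.ΓSpecIso (CommRingCat.of ℓ.RV)).inv (Ideal.Quotient.mk _ (MvPolynomial.C a))) =
    (bs Un.D).left.appTop a := by
  have h1 : (bs Un.D).left = Un.j ≫ ℓ.toU := Un.base
  rw [h1, Scheme.Hom.comp_appTop]
  change _ = Un.j.appTop (ℓ.toU.appTop a)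
  rw [toU_appTop]
  rfl

theorem j_mk_X (l : Fin (n + 1)) (i : Fin (e + 1)) :
    Un.j.appTop ((Scheme.ΓSpecIso (CommRingCat.of ℓ.RV)).inv (Ideal.Quotient.mk _ (MvPolynomial.X (l, i)))) =
      Un.D.φ l i := (Un.φ l i).symm

/-- A subfield of the residue field containing the values of the matrix and of the functions on the base of the chart. -/
theorem mem_of_values (b : Un.A.obj.base.left) (E : Subfield (Un.A.obj.base.left.residueField b))
    (h1 : ∀ a : c.R, Un.A.obj.base.left.Γevaluation b ((bs Un.D).left.appTop a) ∈ E)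
    (h2 : ∀ l i, Un.A.obj.base.left.Γevaluation b (Un.D.φ l i) ∈ E) (z : Un.A.obj.base.left.residueField b) : z ∈ E := by
  have := Un.isOpenImmersion
  refine K239.ResGen.mem_of_forall Un.j b E (fun a => ?_) z
  let ψ : ℓ.RV →+* Un.A.obj.base.left.residueField b :=
    (Un.A.obj.base.left.Γevaluation b).hom.comp (Un.j.appTop.hom.comp (Scheme.ΓSpecIso (CommRingCat.of ℓ.RV)).inv.hom)
  change ψ a ∈ E
  obtain ⟨p, rfl⟩ := Ideal.Quotient.mk_surjective (I := Ideal.span (Set.range ℓ.P)) a
  induction p using MvPolynomial.induction_on with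
  | C a =>
    have h3 : ψ (Ideal.Quotient.mk _ (MvPolynomial.C a)) = Un.A.obj.base.left.Γevaluation b ((bs Un.D).left.appTop a) := by
      rw [← j_mk_C]
      rfl
    rw [h3]
    exact h1 a
  | add p q hp hq =>
    rw [map_add, map_add]
    exact E.add_mem hp hq
  | mul_X p i hp =>
    rw [map_mul, map_mul]
    refine E.mul_mem hp ?_
    have h3 : ψ (Ideal.Quotient.mk _ (MvPolynomial.X i)) = Un.A.obj.base.left.Γevaluation b (Un.D.φ i.1 i.2) := by
      rw [← j_mk_X]
      rfl
    rw [h3]
    exact h2 _ _

end Lin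

section Hon

variable {k : Type u} [Field k] {n d r e : ℕ} {G : LefPen.Form n k d} {hi : IsPre (B0 k r)} {hp : ProdB0 k r}
  (o : Oe G (QO k r).hom e) (ho : OeStab o)

variable {o ho} in
/-- The morphism of the base of a datum to the scheme of tuples. -/
noncomputable def bq {Y : Fam G r} (D : Datum (l0 (hi := hi) (hp := hp) o ho) Y) : Y.base ⟶ QO k r := bs D

/-- The coordinates of the marked points. -/
noncomputable def xAt {Y : Fam G r} (D : Datum (l0 (hi := hi) (hp := hp) o ho) Y) (i : Fin r) : Γ(Y.base.left, ⊤) :=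
  (bq D).left.appTop (xF k r i)

variable {o ho}

theorem kmap_left {Y : Fam G r} (D : Datum (l0 (hi := hi) (hp := hp) o ho) Y) (c : k) :
    (bq D).left.appTop ((Scheme.ΓSpecIso (CommRingCat.of (QR k r))).inv (algebraMap k (QR k r) c)) =
      kmap Y.base.hom c := by
  have h1 : (bq D).left ≫ (QO k r).hom = Y.base.hom := Over.w (bq D)
  have h2 : (QO k r).hom.appTop ((Scheme.ΓSpecIso (CommRingCat.of k)).inv c) =
      (Scheme.ΓSpecIso (CommRingCat.of (QR k r))).inv (algebraMap k (QR k r) c) := by
    have h4 := congrArg (fun f => f.hom c) (Scheme.ΓSpecIso_inv_naturality (CommRingCat.ofHom (algebraMap k (QR k r))))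
    exact h4.symm
  rw [← h2, ← h1]
  change _ = ((bq D).left ≫ (QO k r).hom).appTop ((Scheme.ΓSpecIso (CommRingCat.of k)).inv c)
  rw [Scheme.Hom.comp_appTop]
  rfl

variable (Un : Univ (l0 (hi := hi) (hp := hp) o ho))

attribute [local instance] Curv2.resAlgebra

/-- The residue field of a point of the base of the universal family is generated by the values of the matrix and of the
coordinates of the marked points. -/
theorem adjoin_eq_top (b : Un.A.obj.base.left) :
    letI : Un.A.obj.base.left.Over (Spec (CommRingCat.of k)) := ⟨Un.A.obj.base.hom⟩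
    IntermediateField.adjoin k
      (Set.range (fun p : Fin (n + 1) × Fin (e + 1) => Un.A.obj.base.left.Γevaluation b (Un.D.φ p.1 p.2)) ∪
        Set.range (fun i => Un.A.obj.base.left.Γevaluation b (xAt o ho Un.D i))) =
      (⊤ : IntermediateField k (Un.A.obj.base.left.residueField b)) := by
  let _ : Un.A.obj.base.left.Over (Spec (CommRingCat.of k)) := ⟨Un.A.obj.base.hom⟩
  rw [eq_top_iff]
  rintro z -
  let F := IntermediateField.adjoin k
      (Set.range (fun p : Fin (n + 1) × Fin (e + 1) => Un.A.obj.base.left.Γevaluation b (Un.D.φ p.1 p.2)) ∪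
        Set.range (fun i => Un.A.obj.base.left.Γevaluation b (xAt o ho Un.D i)))
  let ψ : QR k r →+* Un.A.obj.base.left.residueField b :=
    (Un.A.obj.base.left.Γevaluation b).hom.comp
      ((bq Un.D).left.appTop.hom.comp (Scheme.ΓSpecIso (CommRingCat.of (QR k r))).inv.hom)
  have hψp : ∀ p : MvPolynomial (Fin r) k, ψ (algebraMap (MvPolynomial (Fin r) k) (QR k r) p) ∈ F := by
    intro p
    induction p using MvPolynomial.induction_on with
    | C a =>
      have h3 : ψ (algebraMap (MvPolynomial (Fin r) k) (QR k r) (MvPolynomial.C a)) = algebraMap k (Un.A.obj.base.left.residueField b) a := by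
        have h4 : algebraMap (MvPolynomial (Fin r) k) (QR k r) (MvPolynomial.C a) = algebraMap k (QR k r) a :=
          (IsScalarTower.algebraMap_apply k (MvPolynomial (Fin r) k) (QR k r) a).symm
        rw [h4]
        change Un.A.obj.base.left.Γevaluation b ((bq Un.D).left.appTop ((Scheme.ΓSpecIso (CommRingCat.of (QR k r))).inv _)) = _
        rw [kmap_left]
        rfl
      rw [h3]
      exact F.algebraMap_mem a
    | add p q hp hq =>
      rw [map_add, map_add]
      exact F.add_mem hp hq
    | mul_X p i hp =>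
      rw [map_mul, map_mul]
      refine F.mul_mem hp (IntermediateField.subset_adjoin _ _ (Or.inr ⟨i, rfl⟩))
  have hψ : ∀ a : QR k r, ψ a ∈ F := by
    intro a
    obtain ⟨⟨p, s⟩, hs⟩ := IsLocalization.surj (Submonoid.powers (disc k r)) a
    have h1 : ψ a * ψ (algebraMap (MvPolynomial (Fin r) k) (QR k r) s.1) =
        ψ (algebraMap (MvPolynomial (Fin r) k) (QR k r) p) := by
      rw [← map_mul]
      exact congrArg ψ hs
    have h2 : ψ (algebraMap (MvPolynomial (Fin r) k) (QR k r) s.1) ≠ 0 :=
      ((IsLocalization.map_units (QR k r) s).map ψ).ne_zero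
    have h3 : ψ a = ψ (algebraMap (MvPolynomial (Fin r) k) (QR k r) p) /
        ψ (algebraMap (MvPolynomial (Fin r) k) (QR k r) s.1) := by
      rw [eq_div_iff h2]
      exact h1
    rw [h3]
    exact F.div_mem (hψp _) (hψp _)
  refine mem_of_values _ Un b F.toSubfield (fun a => ?_) (fun l i => ?_) z
  · have h1 := hψ ((Scheme.ΓSpecIso (CommRingCat.of (QR k r))).hom a)
    have h2 : ∀ a : Γ((QO k r).left, ⊤), ψ ((Scheme.ΓSpecIso (CommRingCat.of (QR k r))).hom a) =
        Un.A.obj.base.left.Γevaluation b ((bq Un.D).left.appTop a) := by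
      intro a
      have h3 : (Scheme.ΓSpecIso (CommRingCat.of (QR k r))).inv ((Scheme.ΓSpecIso (CommRingCat.of (QR k r))).hom a) = a := by
        rw [← CommRingCat.comp_apply, Iso.hom_inv_id, CommRingCat.id_apply]
      change Un.A.obj.base.left.Γevaluation b ((bq Un.D).left.appTop
        ((Scheme.ΓSpecIso (CommRingCat.of (QR k r))).inv ((Scheme.ΓSpecIso (CommRingCat.of (QR k r))).hom a))) = _
      rw [h3]
    have h4 := h2 a
    rw [h4] at h1
    exact h1
  · exact IntermediateField.subset_adjoin _ _ (Or.inl ⟨(l, i), rfl⟩)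

end Hon

end K239.HonGen
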