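import Groth.Agent.Fano.K239.HonGen

/-!
# The chart of maps from the projective line: dimension of the orbits

* `HMProp`: change of coordinates on the projective line;
* `exists_orbit`: at a point `b` of the base of the universal family at which the map is normalised, there is a point `q` with the
  same class as `b` and `trd b + 4 ≤ trd q`.
-/

set_option autoImplicit false
set_option backward.isDefEq.respectTransparency false
set_option backward.isDefEq.respectTransparency.types false

universe u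

open CategoryTheory CategoryTheory.Limits AlgebraicGeometry
open Groth.Agent Groth.Agent.VarietyB

namespace K239.HonOrb

open K390.PnSec Groth.Agent.Fdesc.LocGen Groth.Agent.Dix.ProjProper
open K188.LineDef K188.LinFun K745.ConDef K505.KonDef K239.HonDef K239.HonGen W4swstmapratcurves K11.UnivKit K239.GLTrd
open K798.TwBin K393.ObjChart

variable {k : Type u} [Field k] {n d r e : ℕ} {G : LefPen.Form n k d} {hi : IsPre (B0 k r)} {hp : ProdB0 k r}
  (o : Oe G (QO k r).hom e) (ho : OeStab o)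

/-- The value `Σ_j φ_{l,j} s^(e-j) t^j`. -/
def vl {A : Type u} [CommRing A] (φ : Fin (n + 1) → Fin (e + 1) → A) (l : Fin (n + 1)) (s t : A) : A :=
  ∑ j, φ l j * (s ^ (e - (j : ℕ)) * t ^ (j : ℕ))

/-- Change of coordinates on the projective line. -/
def HMProp (hi : IsPre (B0 k r)) (hp : ProdB0 k r) : Prop :=
  ∀ {L : Type u} [Field L] (q : Spec (CommRingCat.of L) ⟶ Spec (CommRingCat.of k))
    (Y : (Mst G r e).obj) (_ : Y.obj.base = Over.mk q) (D : Datum (l0 (hi := hi) (hp := hp) o ho) Y.obj)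
    (a b c d' : Γ(Y.obj.base.left, ⊤)) (_ : IsUnit (a * d' - b * c)) (x : Fin r → Γ(Y.obj.base.left, ⊤))
    (_ : ∀ i, xAt o ho D i * (a + b * x i) = c + d' * x i)
    (_ : ∀ i, IsUnit (x i)) (_ : ∀ i, IsUnit (x i - 1)) (_ : ∀ i j, i ≠ j → IsUnit (x i - x j))
    (_ : ∀ i, IsUnit (a + b * x i))
    (φ : Fin (n + 1) → Fin (e + 1) → Γ(Y.obj.base.left, ⊤))
    (_ : ∀ l s t, vl φ l s t = vl D.φ l (a * s + b * t) (c * s + d' * t)) (_ : Infinite L),
    ∃ D' : Datum (l0 (hi := hi) (hp := hp) o ho) Y.obj, (∀ i, xAt o ho D' i = x i) ∧ ∀ l j, D'.φ l j = φ l j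

variable {o ho}

attribute [local instance] Curv2.resAlgebra

theorem xAt_of_isPull {A A' : (Mst G r e).obj} {D' : Datum (l0 (hi := hi) (hp := hp) o ho) A'.obj}
    {D : Datum (l0 (hi := hi) (hp := hp) o ho) A.obj} {g : A' ⟶ A} (H : IsPull D' D g.hom) (i : Fin r) :
    xAt o ho D' i = g.hom.hom.base.left.appTop (xAt o ho D i) := by
  have h1 : bq D' = g.hom.hom.base ≫ bq D := H.base
  unfold xAt
  rw [h1, Over.comp_left, Scheme.Hom.comp_appTop]
  rfl


/-- The field-valued point given by an extension of the residue field. -/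
noncomputable def ypt {T : Scheme.{u}} (b : T) (L : Type u) [Field L] [Algebra (T.residueField b) L] :
    Spec (CommRingCat.of L) ⟶ T :=
  Spec.map (CommRingCat.ofHom (algebraMap (T.residueField b) L)) ≫ T.fromSpecResidueField b

theorem fromSpecResidueField_appTop {T : Scheme.{u}} (b : T) (a : Γ(T, ⊤)) :
    (Scheme.ΓSpecIso (T.residueField b)).hom ((T.fromSpecResidueField b).appTop a) = T.Γevaluation b a := by
  have h1 := congrArg (fun f => f.hom a) (Scheme.fromSpecStalk_appTop (X := T) (x := b))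
  unfold Scheme.fromSpecResidueField
  rw [Scheme.Hom.comp_appTop]
  have h2 : ((T.fromSpecStalk b).appTop ≫ (Spec.map (T.residue b)).appTop) a =
    (Spec.map (T.residue b)).appTop ((T.fromSpecStalk b).appTop a) := rfl
  rw [h2]
  have h3 : (T.fromSpecStalk b).appTop a = (Scheme.ΓSpecIso _).inv (T.presheaf.germ ⊤ b trivial a) := by
    refine h1.trans ?_
    change ((Spec (T.presheaf.stalk b)).presheaf.map (𝟙 _)) ((Scheme.ΓSpecIso _).inv (T.presheaf.germ ⊤ b trivial a)) = _
    rw [CategoryTheory.Functor.map_id]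
    rfl
  rw [h3]
  have h4 := congrArg (fun f => f.hom (T.presheaf.germ ⊤ b trivial a)) (Scheme.ΓSpecIso_inv_naturality (T.residue b))
  have h5 : (Spec.map (T.residue b)).appTop ((Scheme.ΓSpecIso _).inv (T.presheaf.germ ⊤ b trivial a)) =
    (Scheme.ΓSpecIso _).inv (T.residue b (T.presheaf.germ ⊤ b trivial a)) := h4.symm
  rw [h5, ← CommRingCat.comp_apply, Iso.inv_hom_id, CommRingCat.id_apply]
  rfl

theorem ypt_appTop {T : Scheme.{u}} (b : T) (L : Type u) [Field L] [Algebra (T.residueField b) L] (a : Γ(T, ⊤)) :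
    (Scheme.ΓSpecIso (CommRingCat.of L)).hom ((ypt b L).appTop a) = algebraMap (T.residueField b) L (T.Γevaluation b a) := by
  unfold ypt
  rw [Scheme.Hom.comp_appTop]
  have h4 := congrArg (fun f => f.hom ((T.fromSpecResidueField b).appTop a))
    (Scheme.ΓSpecIso_naturality (CommRingCat.ofHom (algebraMap (T.residueField b) L)))
  refine h4.trans ?_
  rw [← fromSpecResidueField_appTop]
  rfl

theorem ypt_apply {T : Scheme.{u}} (b : T) (L : Type u) [Field L] [Algebra (T.residueField b) L] (z : Spec (CommRingCat.of L)) :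
    ypt b L z = b := by
  unfold ypt
  rw [Scheme.Hom.comp_apply]
  exact Scheme.fromSpecResidueField_apply _ _

theorem ypt_over {T : Scheme.{u}} [T.Over (Spec (CommRingCat.of k))] (b : T) (L : Type u) [Field L] [Algebra (T.residueField b) L]
    [Algebra k L] [IsScalarTower k (T.residueField b) L] :
    ypt b L ≫ (T ↘ (Spec (CommRingCat.of k))) = Spec.map (CommRingCat.ofHom (algebraMap k L)) := by
  unfold ypt
  rw [Category.assoc, ← VarietyA.ResMap.specMap_resMap, ← Spec.map_comp]
  congr 1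
  ext c
  exact (IsScalarTower.algebraMap_apply k (T.residueField b) L c).symm

/-- The value `f_{l,j}` of the matrix at a point. -/
noncomputable def fv (Un : Univ (l0 (hi := hi) (hp := hp) o ho)) (b : Un.A.obj.base.left) (l : Fin (n + 1)) (j : Fin (e + 1)) :
    Un.A.obj.base.left.residueField b := Un.A.obj.base.left.Γevaluation b (Un.D.φ l j)

section Theta

variable {L : Type u} [Field L] {q : Spec (CommRingCat.of L) ⟶ Spec (CommRingCat.of k)} {Y : Over (Spec (CommRingCat.of k))}
  (hY : Y = Over.mk q)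

/-- The functions on a family over a field. -/
noncomputable def θ : Γ(Y.left, ⊤) ≃+* L :=
  (asIso ((eqToHom hY.symm).left.appTop ≫ (Scheme.ΓSpecIso (CommRingCat.of L)).hom)).commRingCatIsoToRingEquiv

theorem θ_apply (a : Γ(Y.left, ⊤)) : θ hY a = (Scheme.ΓSpecIso (CommRingCat.of L)).hom ((eqToHom hY.symm).left.appTop a) := rfl

theorem θ_comp {X : Over (Spec (CommRingCat.of k))} (g : Y ⟶ X) (a : Γ(X.left, ⊤)) :
    θ hY (g.left.appTop a) = (Scheme.ΓSpecIso (CommRingCat.of L)).hom ((eqToHom hY.symm ≫ g).left.appTop a) := by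
  rw [θ_apply, Over.comp_left, Scheme.Hom.comp_appTop]
  rfl

end Theta

theorem exists_moebius {L : Type u} [Field L] (A B C E : L) (hdet : A * E - B * C ≠ 0) (x : Fin r → L)
    (hden : ∀ i, E - B * x i ≠ 0) (hnum : ∀ i, A * x i - C ≠ 0) (hne : ∀ i, A * x i - C ≠ E - B * x i)
    (hx : Function.Injective x) :
    ∃ x' : Fin r → L, (∀ i, x i * (A + B * x' i) = C + E * x' i) ∧ (∀ i, x' i ≠ 0) ∧ (∀ i, x' i ≠ 1) ∧
      Function.Injective x' ∧ ∀ i, A + B * x' i ≠ 0 := by
  have hab : ∀ i, A + B * ((A * x i - C) / (E - B * x i)) = (A * E - B * C) / (E - B * x i) := by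
    intro i
    rw [eq_div_iff (hden i), add_mul, mul_assoc, div_mul_cancel₀ _ (hden i)]
    ring
  have hab0 : ∀ i, A + B * ((A * x i - C) / (E - B * x i)) ≠ 0 := fun i => by
    rw [hab]
    exact div_ne_zero hdet (hden i)
  have hxx : ∀ i, x i * (A + B * ((A * x i - C) / (E - B * x i))) = C + E * ((A * x i - C) / (E - B * x i)) := by
    intro i
    rw [hab, mul_div_assoc', div_eq_iff (hden i), add_mul, mul_assoc E, div_mul_cancel₀ _ (hden i)]
    ring
  refine ⟨fun i => (A * x i - C) / (E - B * x i), hxx, fun i => div_ne_zero (hnum i) (hden i), fun i h => ?_, fun i j h => ?_, hab0⟩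
  · rw [div_eq_one_iff_eq (hden i)] at h
    exact hne i h
  · apply hx
    have h1 := hxx i
    have h2 := hxx j
    change (A * x i - C) / (E - B * x i) = (A * x j - C) / (E - B * x j) at h
    rw [h] at h1
    exact mul_right_cancel₀ (hab0 j) (h1.trans h2.symm)

section Units

variable {R L : Type u} [CommRing R] [Field L] (φ : R ≃+* L)

theorem isUnit_symm (z : L) (hz : z ≠ 0) : IsUnit (φ.symm z) := (IsUnit.mk0 z hz).map φ.symm

theorem isUnit_symm_sub_one (z : L) (hz : z ≠ 1) : IsUnit (φ.symm z - 1) := by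
  have h := isUnit_symm φ _ (sub_ne_zero.mpr hz)
  rwa [map_sub, map_one] at h

theorem isUnit_symm_sub (z w : L) (hz : z ≠ w) : IsUnit (φ.symm z - φ.symm w) := by
  have h := isUnit_symm φ _ (sub_ne_zero.mpr hz)
  rwa [map_sub] at h

theorem isUnit_symm_add_mul (A B z : L) (hz : A + B * z ≠ 0) : IsUnit (φ.symm A + φ.symm B * φ.symm z) := by
  have h := isUnit_symm φ _ hz
  rwa [map_add, map_mul] at h

theorem isUnit_symm_det (A B C D : L) (h : A * D - B * C ≠ 0) : IsUnit (φ.symm A * φ.symm D - φ.symm B * φ.symm C) := by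
  have h := isUnit_symm φ _ h
  rwa [map_sub, map_mul, map_mul] at h

theorem symm_eq (a : R) (A B C E z : L) (h : φ a * (A + B * z) = C + E * z) :
    a * (φ.symm A + φ.symm B * φ.symm z) = φ.symm C + φ.symm E * φ.symm z := by
  apply φ.injective
  simpa using h

theorem vl_symm (φ' : Fin (n + 1) → Fin (e + 1) → R) (A B C E : L) (F' : Fin (n + 1) → Fin (e + 1) → L)
    (hF : ∀ l s t, bv (F' l) s t = bv (fun j => φ (φ' l j)) (A * s + B * t) (C * s + E * t)) (l : Fin (n + 1)) (s t : R) :
    vl (fun l j => φ.symm (F' l j)) l s t = vl φ' l (φ.symm A * s + φ.symm B * t) (φ.symm C * s + φ.symm E * t) := by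
  apply φ.injective
  have h := hF l (φ s) (φ t)
  simp only [vl, map_sum, map_mul, map_pow, map_add, RingEquiv.apply_symm_apply]
  exact h

end Units

theorem exists_datum_of_field (hM : HMProp o ho hi hp) {L : Type u} [Field L] [hinf : Infinite L]
    {q : Spec (CommRingCat.of L) ⟶ Spec (CommRingCat.of k)}
    {Y : (Mst G r e).obj} (hY : Y.obj.base = Over.mk q) (D : Datum (l0 (hi := hi) (hp := hp) o ho) Y.obj)
    (A B C E : L) (hdet : A * E - B * C ≠ 0) (x' : Fin r → L)
    (hx : ∀ i, θ hY (xAt o ho D i) * (A + B * x' i) = C + E * x' i) (h0 : ∀ i, x' i ≠ 0) (h1 : ∀ i, x' i ≠ 1)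
    (h2 : Function.Injective x') (hu : ∀ i, A + B * x' i ≠ 0) (F' : Fin (n + 1) → Fin (e + 1) → L)
    (hF : ∀ l s t, bv (F' l) s t = bv (fun j => θ hY (D.φ l j)) (A * s + B * t) (C * s + E * t)) :
    ∃ D' : Datum (l0 (hi := hi) (hp := hp) o ho) Y.obj, (∀ i, θ hY (xAt o ho D' i) = x' i) ∧
      ∀ l j, θ hY (D'.φ l j) = F' l j := by
  obtain ⟨D', hD'x, hD'φ⟩ := hM q Y hY D ((θ hY).symm A) ((θ hY).symm B) ((θ hY).symm C) ((θ hY).symm E)
    (isUnit_symm_det (θ hY) A B C E hdet) (fun i => (θ hY).symm (x' i)) (fun i => symm_eq (θ hY) _ A B C E (x' i) (hx i))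
    (fun i => isUnit_symm (θ hY) _ (h0 i)) (fun i => isUnit_symm_sub_one (θ hY) _ (h1 i))
    (fun i j hij => isUnit_symm_sub (θ hY) _ _ (h2.ne hij)) (fun i => isUnit_symm_add_mul (θ hY) A B _ (hu i))
    (fun l j => (θ hY).symm (F' l j)) (vl_symm (θ hY) D.φ A B C E F' hF) hinf
  refine ⟨D', fun i => ?_, fun l j => ?_⟩
  · rw [hD'x, RingEquiv.apply_symm_apply]
  · rw [hD'φ, RingEquiv.apply_symm_apply]

theorem isUnit_xU_sub {i j : Fin r} (hij : i ≠ j) : IsUnit (xU k r i - xU k r j) := by
  have h1 : IsUnit (algebraMap (MvPolynomial (Fin r) k) (QR k r) (disc k r)) := IsLocalization.Away.algebraMap_isUnit (disc k r)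
  have h2 : (MvPolynomial.X i - MvPolynomial.X j : MvPolynomial (Fin r) k) ∣ disc k r := by
    refine dvd_mul_of_dvd_right ?_ _
    exact Finset.dvd_prod_of_mem (fun p : Fin r × Fin r => (MvPolynomial.X p.1 - MvPolynomial.X p.2 : MvPolynomial (Fin r) k))
      (a := (i, j)) (by simp [hij])
  have h3 := isUnit_of_dvd_unit (map_dvd (algebraMap (MvPolynomial (Fin r) k) (QR k r)) h2) h1
  rw [map_sub] at h3
  exact h3

theorem evaluation_xAt_injective {Y : Fam G r} (D : Datum (l0 (hi := hi) (hp := hp) o ho) Y) (b : Y.base.left) :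
    Function.Injective (fun i => Y.base.left.Γevaluation b (xAt o ho D i)) := by
  intro i j h
  by_contra hij
  have h1 := isUnit_xU_sub (k := k) hij
  have h2 : IsUnit (Y.base.left.Γevaluation b ((bq D).left.appTop ((Scheme.ΓSpecIso (CommRingCat.of (QR k r))).inv
      (xU k r i - xU k r j)))) :=
    ((h1.map (Scheme.ΓSpecIso (CommRingCat.of (QR k r))).inv.hom).map (bq D).left.appTop.hom).map
      (Y.base.left.Γevaluation b).hom
  apply h2.ne_zero
  rw [map_sub, map_sub, map_sub, sub_eq_zero]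
  exact h

theorem exists_orbit [Infinite k] (h𝒳 : FibCat.IsFibGrpd (Mst G r e).p) (hM : HMProp o ho hi hp)
    (Un : Univ (l0 (hi := hi) (hp := hp) o ho)) (he : 1 ≤ e) (hlft : LocallyOfFiniteType Un.A.obj.base.hom)
    (b : Un.A.obj.base.left) (l₁ l₂ l₃ l₀ : Fin (n + 1) → k)
    (h₁ : ∑ i, algebraMap k (Un.A.obj.base.left.residueField b) (l₁ i) * bv (fv Un b i) 1 0 = 0)
    (h₂ : ∑ i, algebraMap k (Un.A.obj.base.left.residueField b) (l₂ i) * bv (fv Un b i) 1 1 = 0)
    (h₃ : ∑ i, algebraMap k (Un.A.obj.base.left.residueField b) (l₃ i) * bv (fv Un b i) 0 1 = 0)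
    (h₀ : ∑ i, algebraMap k (Un.A.obj.base.left.residueField b) (l₀ i) * bv (fv Un b i) 1 0 = 1)
    (n₁ : ∃ j, ∑ i, algebraMap k (Un.A.obj.base.left.residueField b) (l₁ i) * fv Un b i j ≠ 0)
    (n₂ : ∃ j, ∑ i, algebraMap k (Un.A.obj.base.left.residueField b) (l₂ i) * fv Un b i j ≠ 0)
    (n₃ : ∃ j, ∑ i, algebraMap k (Un.A.obj.base.left.residueField b) (l₃ i) * fv Un b i j ≠ 0) :
    ∃ q : Un.A.obj.base.left, cls h𝒳 Un.A q = cls h𝒳 Un.A b ∧
      DimSch.trd k Un.A.obj.base.left b + 4 ≤ DimSch.trd k Un.A.obj.base.left q := by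
  let T := Un.A.obj.base.left
  let K := T.residueField b
  let L : Type u := KG K
  have : IsScalarTower k K L := inferInstance
  let y : Spec (CommRingCat.of L) ⟶ T := ypt b L
  let q₀ : Spec (CommRingCat.of L) ⟶ Spec (CommRingCat.of k) := y ≫ Un.A.obj.base.hom
  let f : Over.mk q₀ ⟶ (Mst G r e).p.obj Un.A := Over.homMk y rfl
  obtain ⟨Y, φ₀, eY, hφ₀⟩ := K735.Fib.exists_lift h𝒳 f
  have hY : Y.obj.base = Over.mk q₀ := eY
  obtain ⟨D₀, H₀⟩ := exists_pull φ₀.hom Un.D
  have hφ₁ : eqToHom hY.symm ≫ φ₀.hom.hom.base = f := by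
    have h : φ₀.hom.hom.base = eqToHom hY ≫ f := hφ₀
    rw [h, eqToHom_trans_assoc, eqToHom_refl, Category.id_comp]
  have hval : ∀ a, θ hY (φ₀.hom.hom.base.left.appTop a) = algebraMap K L (T.Γevaluation b a) := by
    intro a
    rw [θ_comp, hφ₁]
    exact ypt_appTop b L a
  have hinfK : Infinite K := Infinite.of_injective _ (algebraMap k K).injective
  have hinfL : Infinite L := Infinite.of_injective _ (algebraMap K L).injective
  -- the points and the map over `K`
  let x : Fin r → K := fun i => T.Γevaluation b (xAt o ho Un.D i)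
  let F : Fin (n + 1) → Fin (e + 1) → K := fun l j => fv Un b l j
  have hx₀ : ∀ i, θ hY (xAt o ho D₀ i) = algebraMap K L (x i) := by
    intro i
    rw [xAt_of_isPull H₀, hval]
  have hF₀ : ∀ l j, θ hY (D₀.φ l j) = algebraMap K L (F l j) := by
    intro l j
    rw [H₀.φ l j, hval]
    rfl
  -- the translates
  let A := ent K 0
  let B := ent K 1
  let C := ent K 2
  let E := ent K 3
  have hdet : A * E - B * C ≠ 0 := det_ne_zero
  have hden : ∀ i, E - B * algebraMap K L (x i) ≠ 0 := fun i => den_ne_zero (x i)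
  choose F' hF' using fun l => exists_translate A B C E (fun j => algebraMap K L (F l j))
  have hxinj : Function.Injective (fun i => algebraMap K L (x i)) :=
    (algebraMap K L).injective.comp (evaluation_xAt_injective Un.D b)
  obtain ⟨x', hxx, hx0, hx1, hx2, hxu⟩ := exists_moebius A B C E hdet (fun i => algebraMap K L (x i)) hden
    (fun i => num_ne_zero (x i)) (fun i => num_ne_den (x i)) hxinj
  obtain ⟨D', hD'x, hD'φ⟩ := exists_datum_of_field hM hY D₀ A B C E hdet x'
    (fun i => by rw [hx₀]; exact hxx i) hx0 hx1 hx2 hxu F'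
    (fun l s t => by simp only [hF₀]; exact hF' l s t)
  obtain ⟨g', hg', -⟩ := Un.univ Y D'
  let y' : Spec (CommRingCat.of L) ⟶ T := (eqToHom hY.symm ≫ g'.hom.hom.base).left
  have hval' : ∀ a, (Scheme.ΓSpecIso (CommRingCat.of L)).hom (y'.appTop a) = θ hY (g'.hom.hom.base.left.appTop a) := by
    intro a
    exact (θ_comp hY g'.hom.hom.base a).symm
  have hy' : y' ≫ (T ↘ (Spec (CommRingCat.of k))) = Spec.map (CommRingCat.ofHom (algebraMap k L)) := by
    have h1 : y' ≫ Un.A.obj.base.hom = q₀ := Over.w (eqToHom hY.symm ≫ g'.hom.hom.base)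
    have h2 : q₀ = Spec.map (CommRingCat.ofHom (algebraMap k L)) := ypt_over (k := k) b L
    exact h1.trans h2
  refine ⟨y' (IsLocalRing.closedPoint L), ?_, ?_⟩
  · have h1 := cls_map h𝒳 φ₀ ((eqToHom hY.symm).left (IsLocalRing.closedPoint L))
    have h2 := cls_map h𝒳 g' ((eqToHom hY.symm).left (IsLocalRing.closedPoint L))
    have h3 : ((Mst G r e).p.map φ₀).left ((eqToHom hY.symm).left (IsLocalRing.closedPoint L)) = b := by
      have h4 : ((Mst G r e).p.map φ₀).left ((eqToHom hY.symm).left (IsLocalRing.closedPoint L)) =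
          (eqToHom hY.symm ≫ φ₀.hom.hom.base).left (IsLocalRing.closedPoint L) := rfl
      rw [h4, hφ₁]
      exact ypt_apply b L _
    have h5 : ((Mst G r e).p.map g').left ((eqToHom hY.symm).left (IsLocalRing.closedPoint L)) =
        y' (IsLocalRing.closedPoint L) := rfl
    rw [h3] at h1
    rw [h5] at h2
    exact h2.trans h1.symm
  · have hlft' : LocallyOfFiniteType (T ↘ (Spec (CommRingCat.of k))) := hlft
    have h1 := K239.ResGen.trd_eq_of_isAlgebraic k y' hy' ?_
    · have h2 : (DimSch.trd k T b : Cardinal.{u}) = Algebra.trdeg k K := (DimSch.trdeg_eq_trd k b).symm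
      have h3 := trdeg_KG k (K := K)
      rw [← h2] at h3
      have h4 : (DimSch.trd k T (y' (IsLocalRing.closedPoint L)) : Cardinal.{u}) = (DimSch.trd k T b : Cardinal.{u}) + 4 := h1.trans h3
      have h5 : DimSch.trd k T (y' (IsLocalRing.closedPoint L)) = DimSch.trd k T b + 4 := by exact_mod_cast h4
      exact h5.ge
    · intro M hM'
      have hMφ : ∀ l j, F' l j ∈ M := by
        intro l j
        rw [← hD'φ, hg'.φ l j, ← hval']
        exact hM' _
      have hMx : ∀ i, x' i ∈ M := by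
        intro i
        rw [← hD'x, xAt_of_isPull hg', ← hval']
        exact hM' _
      exact isAlgebraic_of_normalised (k := k) (K := K) (L := L) he A B C E adjoin_ent hdet (ent_ne_zero 0) (ent_ne_zero 2)
        sub_ne_zero' F x (adjoin_eq_top Un b) F' x' hF' hxx hxu l₁ l₂ l₃ l₀ h₁ h₂ h₃ h₀ n₁ n₂ n₃ M hMφ hMx

end K239.HonOrb
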