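import Groth.Agent.Fano.K239.HonSlice

/-!
# The chart of maps from the projective line: the honest point and the slice
-/

set_option autoImplicit false
set_option backward.isDefEq.respectTransparency false
set_option backward.isDefEq.respectTransparency.types false

universe u

open CategoryTheory CategoryTheory.Limits AlgebraicGeometry
open Groth.Agent Groth.Agent.VarietyB

namespace K239.HonSlice

open K390.PnSec Groth.Agent.Fdesc.LocGen Groth.Agent.Dix.ProjProper
open K188.LineDef K188.LinFun K745.ConDef K505.KonDef K239.HonDef K239.HonGen W4swstmapratcurves K11.UnivKit K239.GLTrd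
open K798.TwBin K393.ObjChart K239.HonOrb K239.SliceGen

variable {k : Type u} [Field k] {n d r e : ℕ} {G : LefPen.Form n k d} {hi : IsPre (B0 k r)} {hp : ProdB0 k r}
  {o : Oe G (QO k r).hom e} {ho : OeStab o}

attribute [local instance] Curv2.resAlgebra

/-- The matrix of `s^e a + t^e b`. -/
def φab (e : ℕ) (a b : Fin (n + 1) → k) (l : Fin (n + 1)) (j : Fin (e + 1)) : k :=
  (if j = 0 then a l else 0) + (if j = Fin.last e then b l else 0)

theorem vl_φab (a b : Fin (n + 1) → k) (l : Fin (n + 1)) (s t : k) :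
    vl (φab e a b) l s t = (s ^ e • a + t ^ e • b) l := by
  unfold vl φab
  simp only [add_mul, Finset.sum_add_distrib, ite_mul, zero_mul, Finset.sum_ite_eq', Finset.mem_univ, if_true,
    Pi.add_apply, Pi.smul_apply, smul_eq_mul, Fin.val_zero, Nat.sub_zero, pow_zero, mul_one, Fin.val_last, Nat.sub_self,
    one_mul]
  ring

theorem exists_pts [Infinite k] (r : ℕ) : ∃ x : Fin r → k, (∀ i, x i ≠ 0) ∧ (∀ i, x i ≠ 1) ∧ Function.Injective x := by
  have h : (({0, 1} : Set k)ᶜ).Infinite := (Set.toFinite _).infinite_compl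
  let f := h.natEmbedding
  refine ⟨fun i => (f i : k), fun i h0 => ?_, fun i h0 => ?_, fun i j hij => ?_⟩
  · exact (f i).2 (Or.inl h0)
  · exact (f i).2 (Or.inr h0)
  · have h1 := f.injective (Subtype.ext hij)
    exact Fin.ext h1

theorem kmap_id : ((Scheme.ΓSpecIso (CommRingCat.of k)).hom.hom.comp (kmap (𝟙 (Spec (CommRingCat.of k))))) = RingHom.id k := by
  ext c
  change (Scheme.ΓSpecIso (CommRingCat.of k)).hom ((𝟙 (Spec (CommRingCat.of k)) : _).appTop ((Scheme.ΓSpecIso (CommRingCat.of k)).inv c)) = c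
  rw [Scheme.Hom.id_appTop]
  change (Scheme.ΓSpecIso (CommRingCat.of k)).hom ((Scheme.ΓSpecIso (CommRingCat.of k)).inv c) = c
  rw [← CommRingCat.comp_apply, Iso.inv_hom_id, CommRingCat.id_apply]

/-- The honest point. -/
theorem exists_point [IsAlgClosed k] (hP : HPProp o ho hi hp) (he : 1 ≤ e) (Un : Univ (l0 (hi := hi) (hp := hp) o ho))
    (a b : Fin (n + 1) → k) (hab : LinearIndependent k ![a, b])
    (hline : ∀ s t : k, MvPolynomial.eval (s • a + t • b) G.1 = 0) :
    ∃ (b₀ : Un.A.obj.base.left) (χ : Un.A.obj.base.left.residueField b₀ →+* k),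
      (∀ c, χ (algebraMap k (Un.A.obj.base.left.residueField b₀) c) = c) ∧ ∀ l j, χ (fv Un b₀ l j) = φab e a b l j := by
  have hinf : Infinite k := IsAlgClosed.instInfinite
  obtain ⟨x, hx0, hx1, hx2⟩ := exists_pts (k := k) r
  obtain ⟨Y, hY, D, -, hφ⟩ := hP (𝟙 (Spec (CommRingCat.of k))) he x hx0 hx1 hx2 (φab e a b) (by
    intro s t hst
    by_contra hcon
    push Not at hcon
    have h1 : s ^ e • a + t ^ e • b = 0 := by
      funext l
      rw [← vl_φab]
      exact hcon l
    have h2 := LinearIndependent.pair_iff.mp hab _ _ h1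
    apply hst
    rw [pow_eq_zero_iff (by omega), pow_eq_zero_iff (by omega)] at h2
    exact Prod.ext h2.1 h2.2) (by
    intro s t
    rw [kmap_id]
    have h1 : (fun l => vl (φab e a b) l s t) = s ^ e • a + t ^ e • b := by
      funext l
      exact vl_φab a b l s t
    rw [h1]
    exact hline _ _)
  obtain ⟨g, hg, -⟩ := Un.univ Y D
  let y₀ : Spec (CommRingCat.of k) ⟶ Un.A.obj.base.left := (eqToHom hY.symm ≫ g.hom.hom.base).left
  have hval : ∀ z, (Scheme.ΓSpecIso (CommRingCat.of k)).hom (y₀.appTop z) = θ hY (g.hom.hom.base.left.appTop z) := by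
    intro z
    exact (θ_comp hY g.hom.hom.base z).symm
  refine ⟨y₀ (IsLocalRing.closedPoint k), K239.ResGen.ρ y₀, fun c => ?_, fun l j => ?_⟩
  · have h1 := K239.ResGen.ρ_evaluation y₀ (kmap Un.A.obj.base.hom c)
    refine h1.trans ?_
    have h2 : y₀ ≫ Un.A.obj.base.hom = 𝟙 (Spec (CommRingCat.of k)) := Over.w (eqToHom hY.symm ≫ g.hom.hom.base)
    have h3 : y₀.appTop (kmap Un.A.obj.base.hom c) = kmap (𝟙 (Spec (CommRingCat.of k))) c := by
      rw [← h2, K188.OnHypL.kmap_comp]
      rfl
    rw [h3]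
    exact congrArg (fun f => f c) (kmap_id (k := k))
  · have h1 := K239.ResGen.ρ_evaluation y₀ (Un.D.φ l j)
    refine h1.trans ?_
    rw [hval, ← hg.φ l j]
    exact hφ l j

end K239.HonSlice
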