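import Groth.Agent.Variety.K426.DimFib
import Groth.Agent.Variety.K424.TrdMap
import Groth.Agent.CycB.RelDim2

/-!
# Slices of open subschemes of affine schemes

* `notMem_asIdeal_iff`: functions in the ideal of the image of a point;
* `exists_slice_scheme`: an integral closed subset of `Spec A` gives a slice of an open subscheme of `Spec A`.
-/

set_option autoImplicit false

universe u

open CategoryTheory CategoryTheory.Limits AlgebraicGeometry
open Groth.Agent Groth.Agent.VarietyB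

namespace K239.SliceGen

theorem notMem_asIdeal_iff {B : Scheme.{u}} {A : CommRingCat.{u}} (j : B ⟶ Spec A) (b : B) (a : A) :
    a ∉ (j b).asIdeal ↔ B.Γevaluation b (j.appTop ((Scheme.ΓSpecIso A).inv a)) ≠ 0 := by
  have h1 : a ∉ (j b).asIdeal ↔ j b ∈ (Spec A).basicOpen ((Scheme.ΓSpecIso A).inv a) := by
    rw [basicOpen_eq_of_affine]
    rfl
  rw [h1]
  have h2 : j b ∈ (Spec A).basicOpen ((Scheme.ΓSpecIso A).inv a) ↔ b ∈ B.basicOpen (j.appTop ((Scheme.ΓSpecIso A).inv a)) := by
    rw [← Scheme.preimage_basicOpen_top]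
    rfl
  rw [h2]
  exact (Scheme.evaluation_ne_zero_iff_mem_basicOpen (U := ⊤) B b trivial _).symm

theorem mem_asIdeal_iff {B : Scheme.{u}} {A : CommRingCat.{u}} (j : B ⟶ Spec A) (b : B) (a : A) :
    a ∈ (j b).asIdeal ↔ B.Γevaluation b (j.appTop ((Scheme.ΓSpecIso A).inv a)) = 0 := by
  have h := notMem_asIdeal_iff j b a
  tauto

theorem trd_of_isPreimmersion (k : Type u) [Field k] {X Y : Scheme.{u}} [X.Over (Spec (CommRingCat.of k))]
    [Y.Over (Spec (CommRingCat.of k))] [LocallyOfFiniteType (X ↘ (Spec (CommRingCat.of k)))]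
    [LocallyOfFiniteType (Y ↘ (Spec (CommRingCat.of k)))] (f : X ⟶ Y) [IsPreimmersion f]
    (hf : f ≫ (Y ↘ (Spec (CommRingCat.of k))) = X ↘ (Spec (CommRingCat.of k))) (x : X) :
    DimSch.trd k X x = DimSch.trd k Y (f x) := by
  have h1 := K424.TrdMap.trd_add k f hf x
  have h2 : CycB.RelDim.rtd f x = 0 := CycB.RelDim.rtd_eq_zero_of_isPreimmersion f x
  let _ := (f.residueFieldMap x).hom.toAlgebra
  have h3 : Algebra.trdeg (Y.residueField (f x)) (X.residueField x) = 0 := h2
  rw [h3, add_zero, K426.DimKit.trd_cast, K426.DimKit.trd_cast] at h1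
  exact_mod_cast h1

/-- An integral closed subset of `Spec A` gives a slice of an open subscheme of `Spec A`. -/
theorem exists_slice_scheme (k : Type u) [Field k] {A : Type u} [CommRing A] [Algebra k A] [Algebra.FiniteType k A]
    {B : Scheme.{u}} [B.Over (Spec (CommRingCat.of k))] [LocallyOfFiniteType (B ↘ (Spec (CommRingCat.of k)))]
    (j : B ⟶ Spec (CommRingCat.of A)) [IsOpenImmersion j]
    (hj : j ≫ Spec.map (CommRingCat.ofHom (algebraMap k A)) = B ↘ (Spec (CommRingCat.of k))) (ν : A) (b₀ : B)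
    (p : PrimeSpectrum A) (hp : p.asIdeal ≤ (j b₀).asIdeal) (hν : ν ∉ (j b₀).asIdeal) (D : WithBot ℕ∞)
    (hD : D ≤ ringKrullDim (A ⧸ p.asIdeal)) :
    ∃ (S : Scheme.{u}) (_ : S.Over (Spec (CommRingCat.of k))) (_ : LocallyOfFiniteType (S ↘ (Spec (CommRingCat.of k))))
      (i : S ⟶ B), D ≤ topologicalKrullDim S ∧ (∀ s : S, p.asIdeal ≤ (j (i s)).asIdeal ∧ ν ∉ (j (i s)).asIdeal) ∧
        ∀ s : S, DimSch.trd k S s = DimSch.trd k B (i s) := by
  have hdom : IsDomain (A ⧸ p.asIdeal) := inferInstance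
  let X : Scheme.{u} := Spec (CommRingCat.of (A ⧸ p.asIdeal))
  let c : X ⟶ Spec (CommRingCat.of A) := Spec.map (CommRingCat.ofHom (Ideal.Quotient.mk p.asIdeal))
  have hc : IsClosedImmersion c := IsClosedImmersion.spec_of_surjective _ Ideal.Quotient.mk_surjective
  have hcp : ∀ x : X, p.asIdeal ≤ (c x).asIdeal := by
    intro x a ha
    change Ideal.Quotient.mk p.asIdeal a ∈ x.asIdeal
    rw [Ideal.Quotient.eq_zero_iff_mem.mpr ha]
    exact zero_mem _
  let W : X.Opens := c ⁻¹ᵁ (j.opensRange ⊓ PrimeSpectrum.basicOpen ν)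
  let S : Scheme.{u} := W
  have hr : Set.range (W.ι ≫ c) ⊆ Set.range j := by
    rintro _ ⟨s, rfl⟩
    exact s.2.1
  let i : S ⟶ B := IsOpenImmersion.lift j (W.ι ≫ c) hr
  have hi : i ≫ j = W.ι ≫ c := IsOpenImmersion.lift_fac j (W.ι ≫ c) hr
  let ov : S.Over (Spec (CommRingCat.of k)) := ⟨i ≫ (B ↘ (Spec (CommRingCat.of k)))⟩
  let ovX : X.Over (Spec (CommRingCat.of k)) := ⟨c ≫ Spec.map (CommRingCat.ofHom (algebraMap k A))⟩
  have hlX : LocallyOfFiniteType (X ↘ (Spec (CommRingCat.of k))) := by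
    have : LocallyOfFiniteType (Spec.map (CommRingCat.ofHom (algebraMap k A))) := by
      rw [HasRingHomProperty.Spec_iff (P := @LocallyOfFiniteType)]
      exact RingHom.finiteType_algebraMap.mpr inferInstance
    exact inferInstanceAs (LocallyOfFiniteType (c ≫ Spec.map (CommRingCat.ofHom (algebraMap k A))))
  have hSX : W.ι ≫ (X ↘ (Spec (CommRingCat.of k))) = S ↘ (Spec (CommRingCat.of k)) := by
    change W.ι ≫ c ≫ Spec.map (CommRingCat.ofHom (algebraMap k A)) = i ≫ (B ↘ (Spec (CommRingCat.of k)))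
    rw [← hj, ← Category.assoc, ← hi, Category.assoc]
  have hlS : LocallyOfFiniteType (S ↘ (Spec (CommRingCat.of k))) := by
    rw [← hSX]
    infer_instance
  have hval : ∀ s : S, j (i s) = c (W.ι s) := by
    intro s
    rw [← Scheme.Hom.comp_apply, hi, Scheme.Hom.comp_apply]
  have himm : IsPreimmersion i := by
    have : IsPreimmersion (i ≫ j) := by
      rw [hi]
      infer_instance
    exact IsPreimmersion.of_comp i j
  refine ⟨S, ov, hlS, i, ?_, fun s => ⟨?_, ?_⟩, fun s => trd_of_isPreimmersion k i rfl s⟩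
  · have hirr : IrreducibleSpace X := inferInstanceAs (IrreducibleSpace (PrimeSpectrum (A ⧸ p.asIdeal)))
    have h1 : (W : Set X).Nonempty := by
      have h2 : j b₀ ∈ Set.range c := by
        change j b₀ ∈ Set.range (PrimeSpectrum.comap (Ideal.Quotient.mk p.asIdeal))
        rw [range_comap_of_surjective _ _ Ideal.Quotient.mk_surjective, Ideal.mk_ker]
        exact hp
      obtain ⟨x, hx⟩ := h2
      refine ⟨x, ?_⟩
      change c x ∈ (j.opensRange ⊓ PrimeSpectrum.basicOpen ν)
      rw [hx]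
      exact ⟨⟨b₀, rfl⟩, hν⟩
    have h2 := DimSch.topologicalKrullDim_opens_eq_trd k (X := X) W h1
    have h3 := DimSch.topologicalKrullDim_eq_trd k (X := X)
    have h4 : topologicalKrullDim X = ringKrullDim (A ⧸ p.asIdeal) := PrimeSpectrum.topologicalKrullDim_eq_ringKrullDim _
    rw [← h4, h3, ← h2] at hD
    exact hD
  · rw [hval]
    exact hcp _
  · rw [hval]
    exact s.2.2

end K239.SliceGen
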