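import Groth.Agent.Fano.K239.HonOrb
import Groth.Agent.Fano.K239.SliceGen
import Groth.Agent.Fano.K188.OnHyp

/-!
# The chart of maps from the projective line: a slice to the orbits

* `HR`: the ring of the maps; `HPProp`, `HD4Prop`: the inputs;
* `exists_slice`: a scheme `S` of dimension at least `D` with a morphism to the base of the universal family which meets the
  orbits in dimension `0`.
-/

set_option autoImplicit false
set_option backward.isDefEq.respectTransparency false
set_option backward.isDefEq.respectTransparency.types false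

universe u

open CategoryTheory CategoryTheory.Limits AlgebraicGeometry
open Groth.Agent Groth.Agent.VarietyB

namespace K239.HonSlice

open K390.PnSec Groth.Agent.Fdesc.LocGen Groth.Agent.Dix.ProjProper
open K188.LineDef K188.LinFun K745.ConDef K505.KonDef K239.HonDef K239.HonGen W4swstmapratcurves K11.UnivKit K239.GLTrd
open K798.TwBin K393.ObjChart K239.HonOrb K239.SliceGen

section Ring

variable {k : Type u} [Field k] {n : ℕ} (G : MvPolynomial (Fin (n + 1)) k) (d e : ℕ)

/-- The ring of the maps over `R`. -/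
abbrev HR (R : Type u) [CommRing R] [Algebra k R] : Type u :=
  MvPolynomial (Fin (n + 1) × Fin (e + 1)) R ⧸ Ideal.span (Set.range (honP (algebraMap k R) G d e))

/-- Components of slices. -/
def HD4Prop : Prop :=
  ∀ (R : Type u) [CommRing R] [IsDomain R] [Algebra k R] [Algebra.FiniteType k R]
    (s : ℕ) (a : Fin s → HR G d e R) (m : PrimeSpectrum (HR G d e R))
    (_ : ∀ i, a i ∈ m.asIdeal), ∃ p : PrimeSpectrum (HR G d e R), p ≤ m ∧ (∀ i, a i ∈ p.asIdeal) ∧
      ringKrullDim R + ringKrullDim (HR G d e k) ≤ ringKrullDim (HR G d e R ⧸ p.asIdeal) + s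

end Ring

variable {k : Type u} [Field k] {n d r e : ℕ} {G : LefPen.Form n k d} {hi : IsPre (B0 k r)} {hp : ProdB0 k r}
  (o : Oe G (QO k r).hom e) (ho : OeStab o)

/-- Points of the chart. -/
def HPProp (hi : IsPre (B0 k r)) (hp : ProdB0 k r) : Prop :=
  ∀ {Ω : Type u} [Field Ω] [IsAlgClosed Ω] (q : Spec (CommRingCat.of Ω) ⟶ Spec (CommRingCat.of k)) (_ : 1 ≤ e)
    (x : Fin r → Ω) (_ : ∀ i, x i ≠ 0) (_ : ∀ i, x i ≠ 1) (_ : Function.Injective x)
    (φ : Fin (n + 1) → Fin (e + 1) → Ω) (_ : ∀ s t : Ω, (s, t) ≠ 0 → ∃ l, vl φ l s t ≠ 0)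
    (_ : ∀ s t : Ω, MvPolynomial.eval₂ ((Scheme.ΓSpecIso (CommRingCat.of Ω)).hom.hom.comp (kmap q)) (fun l => vl φ l s t) G.1 = 0),
    ∃ (Y : (Mst G r e).obj) (hY : Y.obj.base = Over.mk q) (D : Datum (l0 (hi := hi) (hp := hp) o ho) Y.obj),
      (∀ i, (Scheme.ΓSpecIso (CommRingCat.of Ω)).hom ((eqToHom hY.symm).left.appTop (xAt o ho D i)) = x i) ∧
      ∀ l j, (Scheme.ΓSpecIso (CommRingCat.of Ω)).hom ((eqToHom hY.symm).left.appTop (D.φ l j)) = φ l j

variable {o ho}

attribute [local instance] Curv2.resAlgebra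

/-- The ring of the base of the chart as a `k`-algebra. -/
@[reducible] noncomputable def algR (hi : IsPre (B0 k r)) (hp : ProdB0 k r) : Algebra k (c0 r hi hp).R := (kmap (QO k r).hom).toAlgebra

section Fun

variable (o ho) in
/-- The function `l(f_j)`. -/
noncomputable def fn (hi : IsPre (B0 k r)) (hp : ProdB0 k r) (l : Fin (n + 1) → k) (j : Fin (e + 1)) :
    (l0 (hi := hi) (hp := hp) o ho).RV :=
  Ideal.Quotient.mk _ (∑ i, MvPolynomial.C (kmap (QO k r).hom (l i)) * MvPolynomial.X (i, j))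

variable (o ho) in
/-- The scalars. -/
noncomputable def sc (hi : IsPre (B0 k r)) (hp : ProdB0 k r) (c : k) : (l0 (hi := hi) (hp := hp) o ho).RV :=
  Ideal.Quotient.mk _ (MvPolynomial.C (kmap (QO k r).hom c))

/-- A ring homomorphism on `RV`, at the functions `fn`. -/
theorem map_fn {K : Type u} [Field K] (χ : (l0 (hi := hi) (hp := hp) o ho).RV →+* K) (l : Fin (n + 1) → k)
    (j : Fin (e + 1)) : χ (fn o ho hi hp l j) =
      ∑ i, χ (sc o ho hi hp (l i)) * χ (Ideal.Quotient.mk _ (MvPolynomial.X (i, j))) := by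
  unfold fn
  rw [map_sum, map_sum]
  refine Finset.sum_congr rfl fun i _ => ?_
  rw [map_mul, map_mul]
  rfl

end Fun

section Values

variable (Un : Univ (l0 (hi := hi) (hp := hp) o ho))

/-- The value of a function on `Spec RV` at a point of the base of the universal family. -/
noncomputable def ev (b : Un.A.obj.base.left) : (l0 (hi := hi) (hp := hp) o ho).RV →+* Un.A.obj.base.left.residueField b :=
  (Un.A.obj.base.left.Γevaluation b).hom.comp (Un.j.appTop.hom.comp
    (Scheme.ΓSpecIso (CommRingCat.of (l0 (hi := hi) (hp := hp) o ho).RV)).inv.hom)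

theorem ev_X (b : Un.A.obj.base.left) (l : Fin (n + 1)) (i : Fin (e + 1)) :
    ev Un b (Ideal.Quotient.mk _ (MvPolynomial.X (l, i))) = fv Un b l i := by
  unfold fv
  rw [← j_mk_X]
  rfl

theorem j_sc (c : k) : Un.j.appTop ((Scheme.ΓSpecIso (CommRingCat.of (l0 (hi := hi) (hp := hp) o ho).RV)).inv
    (sc o ho hi hp c)) = kmap Un.A.obj.base.hom c := by
  unfold sc
  have h := j_mk_C (l0 (hi := hi) (hp := hp) o ho) Un (kmap (QO k r).hom c)
  refine h.trans ?_
  have h1 : (bq Un.D).left ≫ (QO k r).hom = Un.A.obj.base.hom := Over.w (bq Un.D)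
  rw [← h1, K188.OnHypL.kmap_comp]
  rfl

theorem ev_sc (b : Un.A.obj.base.left) (c : k) :
    ev Un b (sc o ho hi hp c) = algebraMap k (Un.A.obj.base.left.residueField b) c := by
  change Un.A.obj.base.left.Γevaluation b (Un.j.appTop ((Scheme.ΓSpecIso (CommRingCat.of (l0 (hi := hi) (hp := hp) o ho).RV)).inv
    (sc o ho hi hp c))) = _
  rw [j_sc]
  rfl

theorem ev_fn (b : Un.A.obj.base.left) (l : Fin (n + 1) → k) (j : Fin (e + 1)) :
    ev Un b (fn o ho hi hp l j) = ∑ i, algebraMap k (Un.A.obj.base.left.residueField b) (l i) * fv Un b i j := by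
  rw [map_fn]
  exact Finset.sum_congr rfl fun i _ => by rw [ev_sc, ev_X]

theorem mem_iff_ev (b : Un.A.obj.base.left) (a : (l0 (hi := hi) (hp := hp) o ho).RV) :
    a ∈ (Un.j b).asIdeal ↔ ev Un b a = 0 := mem_asIdeal_iff Un.j b a

end Values

end K239.HonSlice
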