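import Groth.Agent.Fano.K239.HonPt
import Groth.Agent.Fano.K791.HonBase2
import Groth.Agent.Fano.K479.Slice

/-!
# The chart of maps from the projective line: a slice to the orbits

`exists_slice`: a scheme `S` of dimension at least `D` with a morphism to the base of the universal family which meets the
orbits in dimension `0`.
-/

set_option autoImplicit false
set_option backward.isDefEq.respectTransparency false
set_option backward.isDefEq.respectTransparency.types false

universe u

open CategoryTheory CategoryTheory.Limits AlgebraicGeometry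
open Groth.Agent Groth.Agent.VarietyB

namespace K239.Slice

open K390.PnSec Groth.Agent.Fdesc.LocGen Groth.Agent.Dix.ProjProper
open K188.LineDef K188.LinFun K745.ConDef K505.KonDef K239.HonDef K239.HonGen W4swstmapratcurves K11.UnivKit K239.GLTrd
open K798.TwBin K393.ObjChart K239.HonOrb K239.SliceGen K239.HonSlice

section Dual

variable {k : Type u} [Field k] {n : ℕ}

/-- Dual linear forms of two linearly independent vectors. -/
theorem exists_dual {a b : Fin (n + 1) → k} (hab : LinearIndependent k ![a, b]) :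
    ∃ l m : Fin (n + 1) → k, ∑ i, l i * a i = 1 ∧ ∑ i, l i * b i = 0 ∧ ∑ i, m i * a i = 0 ∧ ∑ i, m i * b i = 1 := by
  let g : (Fin 2 → k) →ₗ[k] (Fin (n + 1) → k) := Fintype.linearCombination k ![a, b]
  have hg : LinearMap.ker g = ⊥ := by
    rw [LinearMap.ker_eq_bot']
    intro v hv
    have h1 : v 0 • a + v 1 • b = 0 := by
      have h2 : g v = v 0 • a + v 1 • b := by
        simp [g, Fintype.linearCombination_apply, Fin.sum_univ_two]
      rw [← h2]
      exact hv
    have h2 := LinearIndependent.pair_iff.mp hab _ _ h1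
    funext i
    fin_cases i
    · exact h2.1
    · exact h2.2
  obtain ⟨f, hf⟩ := g.exists_leftInverse_of_injective hg
  have hfa : f a = ![1, 0] := by
    have h1 : g ![1, 0] = a := by
      simp [g, Fintype.linearCombination_apply, Fin.sum_univ_two]
    have h2 := LinearMap.congr_fun hf ![1, 0]
    rw [LinearMap.comp_apply, h1] at h2
    exact h2
  have hfb : f b = ![0, 1] := by
    have h1 : g ![0, 1] = b := by
      simp [g, Fintype.linearCombination_apply, Fin.sum_univ_two]
    have h2 := LinearMap.congr_fun hf ![0, 1]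
    rw [LinearMap.comp_apply, h1] at h2
    exact h2
  have key : ∀ (j : Fin 2) (v : Fin (n + 1) → k), ∑ i, f (Pi.single i 1) j * v i = f v j := by
    intro j v
    have h1 := LinearMap.pi_apply_eq_sum_univ f v
    rw [h1, Finset.sum_apply]
    refine Finset.sum_congr rfl fun i _ => ?_
    have h2 : (Pi.single i 1 : Fin (n + 1) → k) = fun j => if i = j then 1 else 0 := by
      funext x
      simp [Pi.single_apply, eq_comm]
    rw [Pi.smul_apply, smul_eq_mul, mul_comm, h2]
  refine ⟨fun i => f (Pi.single i 1) 0, fun i => f (Pi.single i 1) 1, ?_, ?_, ?_, ?_⟩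
  · rw [key, hfa]; rfl
  · rw [key, hfb]; rfl
  · rw [key, hfa]; rfl
  · rw [key, hfb]; rfl

end Dual

variable {k : Type u} [Field k] {n d r e : ℕ} {G : LefPen.Form n k d} {hi : IsPre (B0 k r)} {hp : ProdB0 k r}
  {o : Oe G (QO k r).hom e} {ho : OeStab o}

attribute [local instance] Curv2.resAlgebra

theorem le_of_add_four (D : ℕ) (x : WithBot ℕ∞) (h : (D : WithBot ℕ∞) + 4 ≤ x + 4) : (D : WithBot ℕ∞) ≤ x := by
  induction x with
  | bot =>
    rw [WithBot.bot_add] at h
    have h1 : (D : WithBot ℕ∞) + 4 = ((D + 4 : ℕ∞) : WithBot ℕ∞) := by norm_cast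
    rw [h1, le_bot_iff] at h
    exact absurd h WithBot.coe_ne_bot
  | coe x =>
    have h1 : ((D : ℕ∞) : WithBot ℕ∞) + ((4 : ℕ∞) : WithBot ℕ∞) ≤ (x : WithBot ℕ∞) + ((4 : ℕ∞) : WithBot ℕ∞) := h
    rw [← WithBot.coe_add, ← WithBot.coe_add, WithBot.coe_le_coe] at h1
    have h2 : (D : ℕ∞) ≤ x :=
      (WithTop.add_le_add_iff_right (by exact (ENat.natCast_ne_top 4 : ((4 : ℕ) : ℕ∞) ≠ ⊤))).mp h1
    exact WithBot.coe_le_coe.mpr h2

theorem bv_one_zero {K : Type u} [Field K] (f : Fin (e + 1) → K) : bv f 1 0 = f 0 := by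
  unfold bv
  rw [Finset.sum_eq_single (0 : Fin (e + 1))]
  · simp
  · intro j _ hj
    have : (j : ℕ) ≠ 0 := fun h => hj (Fin.ext h)
    simp [this]
  · simp

theorem bv_zero_one {K : Type u} [Field K] (f : Fin (e + 1) → K) : bv f 0 1 = f (Fin.last e) := by
  unfold bv
  rw [Finset.sum_eq_single (Fin.last e)]
  · simp
  · intro j _ hj
    have h1 : (j : ℕ) < e := Fin.val_lt_last hj
    have : e - (j : ℕ) ≠ 0 := by omega
    simp [this]
  · simp

theorem bv_one_one {K : Type u} [Field K] (f : Fin (e + 1) → K) : bv f 1 1 = ∑ j, f j := by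
  unfold bv
  simp

/-- The ring `RV` as a `k`-algebra. -/
@[reducible] noncomputable def algRV (o : Oe G (QO k r).hom e) (ho : OeStab o) (hi : IsPre (B0 k r)) (hp : ProdB0 k r) :
    Algebra k (l0 (hi := hi) (hp := hp) o ho).RV :=
  ((Ideal.Quotient.mk (Ideal.span (Set.range (l0 (hi := hi) (hp := hp) o ho).P))).comp
    (MvPolynomial.C.comp (kmap (QO k r).hom))).toAlgebra

theorem finiteType_kmap : (kmap (QO k r).hom).FiniteType := by
  have h1 : kmap (QO k r).hom = ((K791.HonBase.gam k r).symm : QR k r →+* Γ((QO k r).left, ⊤)).comp (algebraMap k (QR k r)) := by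
    rw [← K791.HonBase.gam_kmap, ← RingHom.comp_assoc]
    ext x
    simp
  rw [h1]
  refine RingHom.FiniteType.comp ?_ ?_
  · exact RingHom.FiniteType.of_surjective _ (K791.HonBase.gam k r).symm.surjective
  · rw [RingHom.finiteType_algebraMap]
    infer_instance

theorem finiteType_RV (o : Oe G (QO k r).hom e) (ho : OeStab o) (hi : IsPre (B0 k r)) (hp : ProdB0 k r) :
    letI := algRV o ho hi hp
    Algebra.FiniteType k (l0 (hi := hi) (hp := hp) o ho).RV := by
  let _ := algRV o ho hi hp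
  rw [← RingHom.finiteType_algebraMap]
  refine RingHom.FiniteType.comp ?_ (RingHom.FiniteType.comp ?_ finiteType_kmap)
  · exact RingHom.FiniteType.of_surjective _ Ideal.Quotient.mk_surjective
  · exact RingHom.finiteType_algebraMap.mpr (inferInstance :
      Algebra.FiniteType Γ((QO k r).left, ⊤) (MvPolynomial (Fin (n + 1) × Fin (e + 1)) Γ((QO k r).left, ⊤)))

section Main

variable (Un : Univ (l0 (hi := hi) (hp := hp) o ho))

theorem j_over : Un.j ≫ Spec.map (CommRingCat.ofHom ((Ideal.Quotient.mk (Ideal.span (Set.range (l0 (hi := hi) (hp := hp) o ho).P))).comp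
    (MvPolynomial.C.comp (kmap (QO k r).hom)))) = Un.A.obj.base.hom := by
  refine ext_of_isAffine ?_
  rw [← cancel_epi (Scheme.ΓSpecIso (CommRingCat.of k)).inv]
  ext c
  change (Un.j ≫ Spec.map _).appTop ((Scheme.ΓSpecIso (CommRingCat.of k)).inv c) = kmap Un.A.obj.base.hom c
  rw [← j_sc Un c, Scheme.Hom.comp_appTop]
  have h4 := congrArg (fun f => f.hom c) (Scheme.ΓSpecIso_inv_naturality (CommRingCat.ofHom
    ((Ideal.Quotient.mk (Ideal.span (Set.range (l0 (hi := hi) (hp := hp) o ho).P))).comp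
    (MvPolynomial.C.comp (kmap (QO k r).hom)))))
  exact congrArg Un.j.appTop h4.symm

/-- The values of the functions `fn` at a point at which the matrix is known. -/
theorem chi_ev_fn {b₀ : Un.A.obj.base.left} {a b : Fin (n + 1) → k} {χ : Un.A.obj.base.left.residueField b₀ →+* k}
    (h1 : ∀ c, χ (algebraMap k (Un.A.obj.base.left.residueField b₀) c) = c) (h2 : ∀ l j, χ (fv Un b₀ l j) = φab e a b l j)
    (l : Fin (n + 1) → k) (j : Fin (e + 1)) :
    χ (ev Un b₀ (fn o ho hi hp l j)) = (if j = 0 then ∑ i, l i * a i else 0) + (if j = Fin.last e then ∑ i, l i * b i else 0) := by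
  rw [ev_fn, map_sum]
  have h3 : ∀ i, χ (algebraMap k (Un.A.obj.base.left.residueField b₀) (l i) * fv Un b₀ i j) =
      (if j = 0 then l i * a i else 0) + (if j = Fin.last e then l i * b i else 0) := by
    intro i
    rw [map_mul, h1, h2]
    unfold φab
    split_ifs <;> ring
  rw [Finset.sum_congr rfl fun i _ => h3 i, Finset.sum_add_distrib]
  congr 1
  · split_ifs
    · rfl
    · simp
  · split_ifs
    · rfl
    · simp

/-- The slice. -/
theorem exists_slice' [IsAlgClosed k] (h𝒳 : FibCat.IsFibGrpd (Mst G r e).p) (hM : HMProp o ho hi hp) (hP : HPProp o ho hi hp)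
    (he : 1 ≤ e) (hlft : LocallyOfFiniteType Un.A.obj.base.hom) (D : ℕ)
    (H4 : ∀ (s : ℕ) (a : Fin s → (l0 (hi := hi) (hp := hp) o ho).RV) (m : PrimeSpectrum (l0 (hi := hi) (hp := hp) o ho).RV),
      (∀ i, a i ∈ m.asIdeal) → ∃ p : PrimeSpectrum (l0 (hi := hi) (hp := hp) o ho).RV, p ≤ m ∧ (∀ i, a i ∈ p.asIdeal) ∧
        ((D + 4 : ℕ) : WithBot ℕ∞) ≤ ringKrullDim ((l0 (hi := hi) (hp := hp) o ho).RV ⧸ p.asIdeal) + s)
    (a b : Fin (n + 1) → k) (hab : LinearIndependent k ![a, b])
    (hline : ∀ s t : k, MvPolynomial.eval (s • a + t • b) G.1 = 0) :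
    ∃ (S : Scheme.{u}) (_ : S.Over (Spec (CommRingCat.of k))) (_ : LocallyOfFiniteType (S ↘ (Spec (CommRingCat.of k))))
      (i : S ⟶ Un.A.obj.base.left), (D : WithBot ℕ∞) ≤ topologicalKrullDim S ∧
      (∀ s : S, ∃ q : Un.A.obj.base.left, cls h𝒳 Un.A q = cls h𝒳 Un.A (i s) ∧
        DimSch.trd k S s + 4 ≤ DimSch.trd k Un.A.obj.base.left q) ∧
      ∀ s : S, DimSch.trd k Un.A.obj.base.left (i s) ≤ DimSch.trd k S s := by
  have hinf : Infinite k := IsAlgClosed.instInfinite
  let RV := (l0 (hi := hi) (hp := hp) o ho).RV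
  let _ : Algebra k RV := algRV o ho hi hp
  have hft : Algebra.FiniteType k RV := finiteType_RV o ho hi hp
  have := Un.isOpenImmersion
  have hlft' : LocallyOfFiniteType (Un.A.obj.base.left ↘ (Spec (CommRingCat.of k))) := hlft
  obtain ⟨l, m, hla, hlb, hma, hmb⟩ := exists_dual hab
  obtain ⟨b₀, χ, hχ1, hχ2⟩ := exists_point (hi := hi) (hp := hp) hP he Un a b hab hline
  have hv := chi_ev_fn Un hχ1 hχ2
  have he0 : (0 : Fin (e + 1)) ≠ Fin.last e := by
    intro h
    have := congrArg Fin.val h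
    simp at this
    omega
  let A : Fin 4 → RV := ![fn o ho hi hp l 0 - 1, fn o ho hi hp m 0, ∑ j, fn o ho hi hp (l - m) j, fn o ho hi hp l (Fin.last e)]
  let ν : RV := fn o ho hi hp m (Fin.last e)
  have hA : ∀ i, A i ∈ (Un.j b₀).asIdeal := by
    intro i
    rw [mem_iff_ev]
    apply χ.injective
    rw [map_zero]
    fin_cases i
    · change χ (ev Un b₀ (fn o ho hi hp l 0 - 1)) = 0
      rw [map_sub, map_sub, map_one, map_one, hv]
      simp [he0, hla]
    · change χ (ev Un b₀ (fn o ho hi hp m 0)) = 0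
      rw [hv]
      simp [he0, hma]
    · change χ (ev Un b₀ (∑ j, fn o ho hi hp (l - m) j)) = 0
      rw [map_sum, map_sum, Finset.sum_congr rfl fun j _ => hv (l - m) j, Finset.sum_add_distrib,
        Finset.sum_ite_eq', Finset.sum_ite_eq']
      simp [sub_mul, Finset.sum_sub_distrib, hla, hlb, hma, hmb]
    · change χ (ev Un b₀ (fn o ho hi hp l (Fin.last e))) = 0
      rw [hv]
      simp [he0.symm, hlb]
  have hν : ν ∉ (Un.j b₀).asIdeal := by
    rw [mem_iff_ev]
    intro h
    have h1 := congrArg χ h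
    rw [map_zero] at h1
    change χ (ev Un b₀ (fn o ho hi hp m (Fin.last e))) = 0 at h1
    rw [hv] at h1
    simp [he0.symm, hmb] at h1
  obtain ⟨p, hp1, hp2, hp3⟩ := H4 4 A (Un.j b₀) hA
  have hD : (D : WithBot ℕ∞) ≤ ringKrullDim (RV ⧸ p.asIdeal) := by
    have h2 : ((D + 4 : ℕ) : WithBot ℕ∞) = (D : WithBot ℕ∞) + 4 := by norm_cast
    have h3 : ((4 : ℕ) : WithBot ℕ∞) = 4 := by norm_cast
    rw [h2, h3] at hp3
    exact le_of_add_four D _ hp3
  obtain ⟨S, ov, hlS, i, hSD, hSp, hSt⟩ := exists_slice_scheme k Un.j (j_over Un) ν b₀ p hp1 hν (D : WithBot ℕ∞) hD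
  refine ⟨S, ov, hlS, i, hSD, fun s => ?_, fun s => (hSt s).ge⟩
  obtain ⟨hs1, hs2⟩ := hSp s
  have hz : ∀ j, ev Un (i s) (A j) = 0 := fun j => (mem_iff_ev Un (i s) _).mp (hs1 (hp2 j))
  have hνs : ev Un (i s) ν ≠ 0 := fun h => hs2 ((mem_iff_ev Un (i s) _).mpr h)
  rw [hSt s]
  have h0 : ev Un (i s) (fn o ho hi hp l 0) = 1 := by
    have h := hz 0
    change ev Un (i s) (fn o ho hi hp l 0 - 1) = 0 at h
    rw [map_sub, map_one, sub_eq_zero] at h
    exact h
  have h1 : ev Un (i s) (fn o ho hi hp m 0) = 0 := hz 1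
  have h2 : ev Un (i s) (∑ j, fn o ho hi hp (l - m) j) = 0 := hz 2
  have h3 : ev Un (i s) (fn o ho hi hp l (Fin.last e)) = 0 := hz 3
  refine exists_orbit h𝒳 hM Un he hlft (i s) m (l - m) l l ?_ ?_ ?_ ?_ ⟨Fin.last e, ?_⟩ ⟨0, ?_⟩ ⟨0, ?_⟩
  · rw [ev_fn] at h1
    simpa only [bv_one_zero] using h1
  · rw [map_sum, Finset.sum_congr rfl fun j _ => ev_fn Un (i s) (l - m) j, Finset.sum_comm] at h2
    simpa only [bv_one_one, Finset.mul_sum] using h2
  · rw [ev_fn] at h3
    simpa only [bv_zero_one] using h3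
  · rw [ev_fn] at h0
    simpa only [bv_one_zero] using h0
  · rw [← ev_fn]
    exact hνs
  · have h4 : ∑ x, algebraMap k (Un.A.obj.base.left.residueField (i s)) ((l - m) x) * fv Un (i s) x 0 = 1 := by
      have h5 : ev Un (i s) (fn o ho hi hp l 0) - ev Un (i s) (fn o ho hi hp m 0) = 1 := by rw [h0, h1, sub_zero]
      rw [ev_fn, ev_fn, ← Finset.sum_sub_distrib] at h5
      rw [← h5]
      refine Finset.sum_congr rfl fun x _ => ?_
      rw [Pi.sub_apply, map_sub, sub_mul]
    rw [h4]
    exact one_ne_zero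
  · rw [← ev_fn, h0]
    exact one_ne_zero

end Main

end K239.Slice
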