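import Groth.Agent.Fano.K239.Slice
import Groth.Agent.Fano.K119.HonM
import Groth.Agent.Fano.K351.HonP
import Groth.Agent.Fano.K275.UnivLft
import Groth.Agent.Fano.K723.HonIn

/-!
# The slice in the chart of maps from the projective line (S16940)
-/

set_option autoImplicit false

universe u

open CategoryTheory CategoryTheory.Limits AlgebraicGeometry

namespace K239.SliceFin

open K188.LineDef K505.KonDef K239.HonDef K239.HonOrb K239.HonSlice

variable {k : Type u} [Field k] {n d r e : ℕ} {G : LefPen.Form n k d}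

theorem hm (o : Oe G (QO k r).hom e) (ho : OeStab o) (hi : IsPre (B0 k r)) (hp : ProdB0 k r) : HMProp o ho hi hp :=
  fun q Y hY D a b c d' hdet x hx h0 h1 h2 hu φ hφ hinf =>
    K119.HonM.exists_datum_of_matrix o ho q Y hY D a b c d' hdet x hx h0 h1 h2 hu φ hφ hinf

theorem hP (o : Oe G (QO k r).hom e) (ho : OeStab o) (hi : IsPre (B0 k r)) (hp : ProdB0 k r) : HPProp o ho hi hp :=
  fun q he x h0 h1 h2 φ hgen hG => K351.HonP.exists_family o ho q he x h0 h1 h2 φ hgen hG

/-- The existence of the slice. -/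
theorem sliceP [IsAlgClosed k] (G : LefPen.Form n k d) (r e : ℕ) (he : 1 ≤ e) : K723.HonIn.SliceP G r e :=
  fun h𝒳 hi hp o ho Un D H4 a b hab hline =>
    K239.Slice.exists_slice' Un h𝒳 (hm o ho hi hp) (hP o ho hi hp) he (K275.UnivLft.locallyOfFiniteType_univ Un) D H4 a b hab
      hline

end K239.SliceFin
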